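import Cfsg.Agent.SolvBound.Basic
import Cfsg.Agent.Perm.Regular
import Cfsg.Agent.Lib.MinimalNormal

/-!
# Soluble permutation groups have order at most `3 ^ (n - 1)`, given the bound for linear groups
-/

set_option autoImplicit false
set_option linter.style.haveILetI false

namespace Cfsg.Agent.SolvBound

open MulAction
open scoped Pointwise

/-- Every invariant subgroup has an invariant complement. -/
def CR {V : Type*} [AddCommGroup V] (H : Subgroup (AddMonoid.End V)ˣ) : Prop :=
  ∀ U : AddSubgroup V, (∀ h ∈ H, ∀ v ∈ U, h • v ∈ U) →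
    ∃ W : AddSubgroup V, (∀ h ∈ H, ∀ v ∈ W, h • v ∈ W) ∧ U ⊓ W = ⊥ ∧ U ⊔ W = ⊤

/-- The order bound for linear groups on modules of size at most `t`. -/
def OB (t : ℕ) : Prop :=
  ∀ (V : Type) [AddCommGroup V] [Finite V], Nontrivial V → Nat.card V ≤ t →
    ∀ H : Subgroup (AddMonoid.End V)ˣ, Group.IsSolvable H → CR H →
      9 * Nat.card H ^ 2 ≤ Nat.card V ^ 5

theorem factorial_small {n : ℕ} (hn : 2 ≤ n) (hn4 : n ≤ 4) : n.factorial ≤ 3 ^ (n - 1) := by
  interval_cases n <;> decide

theorem seven_le_nine : ∀ n : ℕ, 6 ≤ n → n ^ 7 ≤ 9 ^ n := by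
  intro n hn
  induction n, hn using Nat.le_induction with
  | base => norm_num
  | succ n hn ih =>
    have h1 : (n + 1) * 6 ≤ n * 7 := by omega
    have h2 : (n + 1) ^ 7 * 6 ^ 7 ≤ n ^ 7 * 7 ^ 7 := by
      rw [← mul_pow, ← mul_pow]; exact Nat.pow_le_pow_left h1 7
    have h3 : (7 : ℕ) ^ 7 ≤ 9 * 6 ^ 7 := by norm_num
    have h4 : (n + 1) ^ 7 * 6 ^ 7 ≤ n ^ 7 * 9 * 6 ^ 7 :=
      h2.trans ((Nat.mul_le_mul_left _ h3).trans_eq (by ring))
    have h5 := Nat.le_of_mul_le_mul_right h4 (by norm_num)
    rw [pow_succ 9 n]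
    exact h5.trans (Nat.mul_le_mul_right 9 ih)

/-- The image of an action. -/
theorem card_le_range {G X : Type*} [Group G] [MulAction G X] [FaithfulSMul G X] :
    Nat.card G = Nat.card (MulAction.toPermHom G X).range :=
  Nat.card_congr (MonoidHom.ofInjective (MulAction.toPerm_injective (α := G) (β := X))).toEquiv

/-- **Soluble permutation groups.** -/
theorem perm_card_le {t : ℕ} (hOB : OB t) : ∀ n, ∀ (α : Type) [Finite α], Nat.card α = n →
    1 ≤ n → n ≤ t → ∀ S : Subgroup (Equiv.Perm α), Group.IsSolvable S →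
    Nat.card S ≤ 3 ^ (n - 1) := by
  intro n
  induction n using Nat.strong_induction_on with
  | _ n ih =>
  intro α _ hn h1 ht S hS
  classical
  haveI : Fintype α := Fintype.ofFinite α
  rcases Nat.lt_or_ge n 2 with hn2 | hn2
  · haveI : Subsingleton α := Finite.card_le_one_iff_subsingleton.mp (by omega)
    exact (Finite.card_le_one_iff_subsingleton.mpr inferInstance).trans (Nat.one_le_pow _ _ (by norm_num))
  rcases Nat.lt_or_ge n 5 with hn5 | hn5
  · refine le_trans ?_ (factorial_small hn2 (by omega))
    rw [← hn, ← Nat.card_perm]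
    exact Nat.card_le_card_of_injective _ S.subtype_injective
  haveI := hS
  haveI : Nonempty α := (Nat.card_pos_iff.mp (by omega)).1
  obtain ⟨a⟩ := (inferInstance : Nonempty α)
  -- images in smaller degree
  have himg : ∀ (β : Type) [Finite β] (f : S →* Equiv.Perm β), 1 ≤ Nat.card β →
      Nat.card β < n → Nat.card f.range ≤ 3 ^ (Nat.card β - 1) := fun β _ f hb hlt =>
    ih _ hlt β rfl hb (by omega) f.range
      (Group.isSolvable_of_surjective f.rangeRestrict_surjective)
  by_cases htr : IsPretransitive S α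
  swap
  · -- intransitive
    let O : SubMulAction S α :=
      { carrier := orbit S a
        smul_mem' := fun g x hx => by
          obtain ⟨s, rfl⟩ := hx
          exact ⟨g * s, mul_smul g s a⟩ }
    let O' : SubMulAction S α :=
      { carrier := (orbit S a)ᶜ
        smul_mem' := fun g x hx h => hx <| by
          obtain ⟨s, hs⟩ := h
          exact ⟨g⁻¹ * s, by simp only [mul_smul]; rw [show s • a = g • x from hs, inv_smul_smul]⟩ }
    have hsum : Nat.card O + Nat.card O' = n := by
      rw [← hn]
      exact (Set.ncard_add_ncard_compl (orbit S a))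
    have hO : 1 ≤ Nat.card O := by
      haveI : Nonempty O := ⟨⟨a, mem_orbit_self a⟩⟩
      exact Nat.card_pos
    have hO' : 1 ≤ Nat.card O' := by
      by_contra h
      refine htr ((isPretransitive_iff_base a).mpr fun x => ?_)
      by_contra hx
      haveI : Nonempty O' := ⟨⟨x, fun ⟨s, hs⟩ => hx ⟨s, hs⟩⟩⟩
      exact h Nat.card_pos
    let Y : Bool → Type := fun b => if b then O else O'
    let f₁ := MulAction.toPermHom S O
    let f₂ := MulAction.toPermHom S O'
    have hinj : Function.Injective (fun s : S => (f₁.rangeRestrict s, f₂.rangeRestrict s)) := by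
      intro s s' h
      refine Subtype.ext (Equiv.ext fun x => ?_)
      by_cases hx : x ∈ orbit S a
      · exact congrArg Subtype.val
          (DFunLike.congr_fun (congrArg Subtype.val (congrArg Prod.fst h)) (⟨x, hx⟩ : O))
      · exact congrArg Subtype.val
          (DFunLike.congr_fun (congrArg Subtype.val (congrArg Prod.snd h)) (⟨x, hx⟩ : O'))
    calc Nat.card S ≤ Nat.card (f₁.range × f₂.range) := Nat.card_le_card_of_injective _ hinj
      _ ≤ 3 ^ (Nat.card O - 1) * 3 ^ (Nat.card O' - 1) := by
        rw [Nat.card_prod]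
        exact Nat.mul_le_mul (himg O f₁ hO (by omega)) (himg O' f₂ hO' (by omega))
      _ ≤ 3 ^ (n - 1) := by
        rw [← pow_add]; exact Nat.pow_le_pow_right (by norm_num) (by omega)
  by_cases hpr : IsPreprimitive S α
  swap
  · -- imprimitive
    obtain ⟨B, haB, hB, hBt⟩ : ∃ B : Set α, a ∈ B ∧ IsBlock S B ∧ ¬ IsTrivialBlock B := by
      by_contra h
      push Not at h
      exact hpr (IsPreprimitive.of_isTrivialBlock_base a fun hab hb => h _ hab hb)
    have hB1 : 1 < B.ncard := by
      rcases Nat.lt_or_ge 1 B.ncard with h | h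
      · exact h
      · exact absurd (Or.inl ((Set.ncard_le_one (Set.toFinite _)).mp h)) hBt
    have hmul : B.ncard * (orbit S B).ncard = n := hn ▸ hB.ncard_block_mul_ncard_orbit_eq ⟨a, haB⟩
    have hBn : B.ncard < n := by
      rw [← hn]
      exact Set.ncard_lt_card fun h => hBt (Or.inr h)
    let ι : Type := orbit S B
    haveI : Fintype ι := Fintype.ofFinite _
    have hι : Nat.card ι = (orbit S B).ncard := Nat.card_coe_set_eq _
    let f := MulAction.toPermHom S ι
    have hsize : ∀ C : ι, (C : Set α).ncard = B.ncard := by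
      rintro ⟨_, g, rfl⟩
      exact Set.ncard_image_of_injective _ (MulAction.injective g)
    let P : ι → Type := fun C => ((C : Set α) : Type)
    let act : ∀ C : ι, f.ker →* Equiv.Perm (P C) := fun C =>
      { toFun := fun s => Equiv.Perm.subtypePerm ((s : S) : Equiv.Perm α) fun x => by
          have h : (s : S) • (C : Set α) = C :=
            congrArg Subtype.val (DFunLike.congr_fun (MonoidHom.mem_ker.mp s.2) C)
          show (((s : S) : Equiv.Perm α) x) ∈ (C : Set α) ↔ x ∈ (C : Set α)
          conv_lhs => rw [← h]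
          exact Set.smul_mem_smul_set_iff
        map_one' := Equiv.ext fun _ => rfl
        map_mul' := fun _ _ => Equiv.ext fun _ => rfl }
    have hker : Nat.card f.ker ≤ ∏ C : ι, Nat.card (act C).range := by
      refine card_le_prod act fun s hs => Subtype.ext (Subtype.ext (Equiv.ext fun x => ?_))
      obtain ⟨g, hg⟩ := exists_smul_eq S a x
      have hx : x ∈ g • B := hg ▸ Set.smul_mem_smul_set haB
      exact congrArg Subtype.val
        (DFunLike.congr_fun (hs ⟨g • B, g, rfl⟩) (⟨x, hx⟩ : P ⟨g • B, g, rfl⟩))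
    have hker' : Nat.card f.ker ≤ (3 ^ (B.ncard - 1)) ^ Nat.card ι := by
      refine hker.trans ?_
      rw [Nat.card_eq_fintype_card, ← Finset.card_univ, ← Finset.prod_const]
      refine Finset.prod_le_prod' fun C _ => ?_
      have hc : Nat.card (P C) = B.ncard := (Nat.card_coe_set_eq _).trans (hsize C)
      exact hc ▸ ih _ (by omega) (P C) rfl (by omega) (by omega) _
        (Group.isSolvable_of_surjective (act C).rangeRestrict_surjective)
    have hι1 : 1 ≤ Nat.card ι := by
      haveI : Nonempty ι := ⟨⟨B, mem_orbit_self B⟩⟩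
      exact Nat.card_pos
    have hιn : Nat.card ι < n := by rw [hι]; nlinarith
    calc Nat.card S = Nat.card f.ker * Nat.card f.range := card_eq_ker_mul_range f
      _ ≤ (3 ^ (B.ncard - 1)) ^ Nat.card ι * 3 ^ (Nat.card ι - 1) :=
        Nat.mul_le_mul hker' (himg ι f hι1 hιn)
      _ ≤ 3 ^ (n - 1) := by
        rw [← pow_mul, ← pow_add]
        refine Nat.pow_le_pow_right (by norm_num) ?_
        rw [hι] at hι1 ⊢
        obtain ⟨b, hb⟩ : ∃ b, B.ncard = b + 1 := ⟨B.ncard - 1, by omega⟩
        rw [hb] at hmul ⊢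
        simp only [Nat.add_sub_cancel] at *
        rw [add_mul, one_mul] at hmul
        omega
  -- primitive
  haveI : Nontrivial S := by
    obtain ⟨x, y, hxy⟩ := (Finite.one_lt_card_iff_nontrivial.mp (by omega : 1 < Nat.card α)).exists_pair_ne
    obtain ⟨g, hg⟩ := exists_smul_eq S x y
    exact ⟨g, 1, fun h => hxy (by rw [← hg, h, one_smul])⟩
  obtain ⟨N, hNn, hN0, -, hmin⟩ := MinNormal.exists_minimal_normal_le (⊤ : Subgroup S)
    (by exact top_ne_bot)
  haveI := hNn
  haveI := hpr
  haveI : IsPretransitive N α := PermLib.isPretransitive_of_normal_ne_bot hN0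
  have hcomm : IsMulCommutative N := MinNormal.isMulCommutative N hmin
  have hreg := PermLib.stabilizer_eq_bot_of_isMulCommutative (α := α) hcomm a
  have hcardN : Nat.card N = n := hn ▸ PermLib.card_eq_of_regular hreg
  let S₀ : Subgroup S := stabilizer S a
  have hScard : Nat.card S = n * Nat.card S₀ := by
    rw [← hn, ← Subgroup.card_mul_index S₀, index_stabilizer_of_transitive, mul_comm]
  let φ : S₀ →* MulAut N := MulAut.conjNormal.comp S₀.subtype
  have hφ : Function.Injective φ := by
    rw [injective_iff_map_eq_one]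
    intro s hs
    refine Subtype.ext (Subtype.ext (Equiv.ext fun x => ?_))
    obtain ⟨m, rfl⟩ := (PermLib.smul_bijective_of_regular hreg).surjective x
    have h1 : ((s : S) * (m : S) * (s : S)⁻¹) = (m : S) :=
      (MulAut.conjNormal_apply (s : S) m).symm.trans
        (congrArg Subtype.val (DFunLike.congr_fun hs m))
    have h2 := PermLib.conj_smul_of_mem_stabilizer (α := α) s.2 (m : S)
    rw [h1] at h2
    exact h2.symm
  rw [hScard]
  rcases Nat.lt_or_ge n 6 with hn6 | hn6
  · have hn5' : n = 5 := by omega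
    haveI : Fact (Nat.Prime 5) := ⟨by norm_num⟩
    haveI : IsCyclic N := isCyclic_of_prime_card (hcardN.trans hn5')
    have h4 : Nat.card S₀ ≤ 4 := by
      refine (Nat.card_le_card_of_injective _ hφ).trans ?_
      rw [IsCyclic.card_mulAut, hcardN, hn5', Nat.totient_prime (by norm_num)]
    rw [hn5']
    exact (Nat.mul_le_mul_left 5 h4).trans (by norm_num)
  · let V := Additive N
    letI : AddCommGroup V :=
      { (inferInstance : AddGroup (Additive N)) with
        add_comm := fun x y => congrArg Additive.ofMul (hcomm.is_comm.comm x.toMul y.toMul) }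
    let ψ : S₀ →* (AddMonoid.End V)ˣ :=
      MonoidHom.toHomUnits
        { toFun := fun s => (MonoidHom.toAdditive (φ s).toMonoidHom : V →+ V)
          map_one' := by rw [map_one]; rfl
          map_mul' := fun s s' => by rw [map_mul]; rfl }
    have hψ : Function.Injective ψ := fun s s' h => hφ (MulEquiv.ext fun m =>
      congrArg Additive.toMul (DFunLike.congr_fun (congrArg Units.val h) (Additive.ofMul m)))
    have hCR : CR ψ.range := by
      intro U hU
      let M : Subgroup S := (AddSubgroup.toSubgroup' U).map N.subtype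
      have hMN : M ≤ N := by rintro _ ⟨m, -, rfl⟩; exact m.2
      have hS : ∀ g : S, g ∈ Subgroup.normalizer (M : Set S) := by
        intro g
        obtain ⟨m, hm, s, hs, rfl⟩ := PermLib.exists_mem_mul_mem_stabilizer N a g
        refine mul_mem ?_ ?_
        · refine Subgroup.centralizer_le_normalizer (M : Set S) ?_
          intro x hx
          exact congrArg Subtype.val (hcomm.is_comm.comm ⟨x, hMN hx⟩ ⟨m, hm⟩)
        · rw [Subgroup.mem_normalizer_iff]
          intro x
          constructor
          · rintro ⟨y, hy, rfl⟩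
            exact ⟨φ ⟨s, hs⟩ y, hU _ ⟨⟨s, hs⟩, rfl⟩ (Additive.ofMul y) hy,
              MulAut.conjNormal_apply _ _⟩
          · rintro ⟨y, hy, hyx⟩
            refine ⟨φ ⟨s, hs⟩⁻¹ y, hU _ ⟨⟨s, hs⟩⁻¹, rfl⟩ (Additive.ofMul y) hy, ?_⟩
            refine (MulAut.conjNormal_apply _ _).trans ?_
            rw [show ((y : N) : S) = s * x * s⁻¹ from hyx]
            simp [mul_assoc]
      have hMn : M.Normal := ⟨fun x hx g => (Subgroup.mem_normalizer_iff.mp (hS g) x).mp hx⟩
      rcases hmin M hMn hMN with h | h
      · refine ⟨⊤, fun _ _ _ _ => trivial, ?_, sup_top_eq U⟩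
        rw [inf_top_eq, AddSubgroup.eq_bot_iff_forall]
        intro v hv
        have hv' : ((v.toMul : N) : S) ∈ M := ⟨v.toMul, hv, rfl⟩
        rw [h, Subgroup.mem_bot] at hv'
        exact congrArg Additive.ofMul (Subtype.ext hv' : v.toMul = 1)
      · refine ⟨⊥, fun g _ v hv => ?_, inf_bot_eq U, ?_⟩
        · rw [AddSubgroup.mem_bot] at hv ⊢
          rw [hv, smul_zero]
        · rw [sup_bot_eq, AddSubgroup.eq_top_iff']
          intro v
          obtain ⟨y, hy, hyx⟩ : ((v.toMul : N) : S) ∈ M := h.symm ▸ v.toMul.2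
          have he : y = v.toMul := Subtype.ext hyx
          rw [he] at hy
          exact hy
    haveI : Finite V := inferInstanceAs (Finite N)
    have hcardV : Nat.card V = n := hcardN
    have hb := hOB V (Finite.one_lt_card_iff_nontrivial.mp (by omega)) (by omega) ψ.range
      (Group.isSolvable_of_surjective ψ.rangeRestrict_surjective) hCR
    rw [← Nat.card_congr (MonoidHom.ofInjective hψ).toEquiv, hcardV] at hb
    have h7 := seven_le_nine n hn6
    rw [← Nat.pow_le_pow_iff_left (two_ne_zero), ← pow_mul]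
    have h9 : 9 * (n * Nat.card S₀) ^ 2 ≤ 9 * 3 ^ ((n - 1) * 2) := by
      calc 9 * (n * Nat.card S₀) ^ 2 = n ^ 2 * (9 * Nat.card S₀ ^ 2) := by ring
        _ ≤ n ^ 2 * n ^ 5 := Nat.mul_le_mul_left _ hb
        _ = n ^ 7 := by ring
        _ ≤ 9 ^ n := h7
        _ = 9 * 3 ^ ((n - 1) * 2) := by
          obtain ⟨m, rfl⟩ : ∃ m, n = m + 1 := ⟨n - 1, by omega⟩
          rw [Nat.add_sub_cancel, pow_succ, mul_comm m 2, pow_mul]
          norm_num
          ring
    exact Nat.le_of_mul_le_mul_left h9 (by norm_num)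

end Cfsg.Agent.SolvBound
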