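import Mathlib
import Cfsg.Agent.SolvBound.Perm

/-!
# Alternating pairings on abelian groups of squarefree exponent
-/

set_option autoImplicit false
set_option linter.style.haveILetI false

namespace Cfsg.Agent.SolvBound

/-- Every invariant subgroup has an invariant complement. -/
def CRM {W : Type*} [CommGroup W] (H : Subgroup (MulAut W)) : Prop :=
  ∀ M : Subgroup W, (∀ h ∈ H, ∀ w ∈ M, h w ∈ M) →
    ∃ M' : Subgroup W, (∀ h ∈ H, ∀ w ∈ M', h w ∈ M') ∧ M ⊓ M' = ⊥ ∧ M ⊔ M' = ⊤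

theorem card_monoidHom_le {M U : Type*} [CommGroup M] [Finite M] [CommGroup U] [Finite U]
    [IsCyclic U] : Nat.card (M →* U) ≤ Nat.card M := by
  haveI : NeZero (Nat.card U) := ⟨Nat.card_pos.ne'⟩
  haveI : NeZero (Monoid.exponent M) := ⟨Monoid.exponent_ne_zero_of_finite⟩
  haveI : IsCyclic (rootsOfUnity (Nat.card U) ℂ) := rootsOfUnity.isCyclic ℂ _
  let e : U ≃* rootsOfUnity (Nat.card U) ℂ := mulEquivOfCyclicCardEq (by
    rw [HasEnoughRootsOfUnity.natCard_rootsOfUnity ℂ])
  haveI : Finite (M →* ℂˣ) := Nat.finite_of_card_ne_zero (by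
    rw [CommGroup.card_monoidHom_of_hasEnoughRootsOfUnity M ℂ]; exact Nat.card_pos.ne')
  rw [← CommGroup.card_monoidHom_of_hasEnoughRootsOfUnity M ℂ]
  refine Nat.card_le_card_of_injective
    (fun f => (rootsOfUnity (Nat.card U) ℂ).subtype.comp (e.toMonoidHom.comp f)) fun f g h => ?_
  refine MonoidHom.ext fun m => e.injective (Subtype.ext ?_)
  exact DFunLike.congr_fun h m

/-- An alternating non-degenerate pairing. -/
structure Pairing (W U : Type*) [CommGroup W] [CommGroup U] where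
  ω : W →* W →* U
  alt : ∀ w, ω w w = 1
  nondeg : ∀ w, (∀ x, ω w x = 1) → w = 1

namespace Pairing

variable {W U : Type*} [CommGroup W] [CommGroup U] (P : Pairing W U)

theorem swap (x y : W) : P.ω x y = (P.ω y x)⁻¹ := by
  have h := P.alt (x * y)
  simp only [map_mul, MonoidHom.mul_apply, P.alt, one_mul, mul_one] at h
  exact mul_eq_one_iff_eq_inv.mp (mul_comm (P.ω y x) _ ▸ h)

/-- Restriction of the pairing to `M` in the second variable. -/
def res (M : Subgroup W) : W →* (M →* U) where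
  toFun w := (P.ω w).comp M.subtype
  map_one' := by rw [map_one]; rfl
  map_mul' a b := by rw [map_mul]; rfl

/-- The orthogonal subgroup. -/
def perp (M : Subgroup W) : Subgroup W := (P.res M).ker

theorem mem_perp {M : Subgroup W} {w : W} : w ∈ P.perp M ↔ ∀ m ∈ M, P.ω w m = 1 := by
  rw [perp, MonoidHom.mem_ker]
  exact ⟨fun h m hm => DFunLike.congr_fun h ⟨m, hm⟩,
    fun h => MonoidHom.ext fun m => h m m.2⟩

variable [Finite W] [Finite U] [IsCyclic U]

theorem card_le (M : Subgroup W) : Nat.card W ≤ Nat.card (P.perp M) * Nat.card M := by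
  haveI : Finite (M →* U) := Finite.of_injective _ DFunLike.coe_injective
  rw [card_eq_ker_mul_range (P.res M)]
  exact Nat.mul_le_mul_left _
    ((Nat.card_le_card_of_injective _ Subtype.val_injective).trans card_monoidHom_le)

theorem sup_perp {M : Subgroup W} (h : M ⊓ P.perp M = ⊥) : M ⊔ P.perp M = ⊤ := by
  refine Subgroup.eq_top_of_le_card _ ((P.card_le M).trans ?_)
  rw [mul_comm, ← Nat.card_prod]
  refine Nat.card_le_card_of_injective
    (fun x : M × P.perp M => (⟨(x.1 : W) * x.2, Subgroup.mul_mem_sup x.1.2 x.2.2⟩ : ↥(M ⊔ P.perp M)))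
    ?_
  rintro ⟨a, b⟩ ⟨c, d⟩ he
  have he' : (a : W) * b = c * d := congrArg Subtype.val he
  have hm : (c : W)⁻¹ * a ∈ M ⊓ P.perp M := by
    refine ⟨M.mul_mem (M.inv_mem c.2) a.2, ?_⟩
    have : (c : W)⁻¹ * a = d * (b : W)⁻¹ := by
      rw [inv_mul_eq_iff_eq_mul, ← mul_assoc, eq_mul_inv_iff_mul_eq, he']
    rw [this]
    exact (P.perp M).mul_mem d.2 ((P.perp M).inv_mem b.2)
  rw [h, Subgroup.mem_bot, inv_mul_eq_one] at hm
  have h1 : a = c := Subtype.ext hm.symm
  subst h1
  exact Prod.ext rfl (Subtype.ext (mul_left_cancel he'))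

/-- The restriction to a non-degenerate subgroup. -/
def restrict {M : Subgroup W} (h : M ⊓ P.perp M = ⊥) : Pairing M U where
  ω := (P.res M).comp M.subtype
  alt m := P.alt m
  nondeg m hm := by
    have : (m : W) ∈ M ⊓ P.perp M :=
      ⟨m.2, P.mem_perp.mpr fun x hx => hm ⟨x, hx⟩⟩
    rw [h, Subgroup.mem_bot] at this
    exact Subtype.ext this

theorem perp_inf {M : Subgroup W} (h : M ⊓ P.perp M = ⊥) :
    P.perp M ⊓ P.perp (P.perp M) = ⊥ := by
  rw [Subgroup.eq_bot_iff_forall]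
  intro w hw
  refine P.nondeg w fun x => ?_
  obtain ⟨a, ha, b, hb, rfl⟩ := Subgroup.mem_sup.mp ((P.sup_perp h) ▸ Subgroup.mem_top x)
  rw [map_mul, P.mem_perp.mp hw.1 a ha, P.mem_perp.mp hw.2 b hb, one_mul]

/-- An abelian group with an alternating non-degenerate pairing has square order. -/
theorem exists_sq {n : ℕ} (hn : Squarefree n) :
    ∀ (k : ℕ) (W : Type*) [CommGroup W] [Finite W], Pairing W U → (∀ w : W, w ^ n = 1) →
      Nat.card W = k → ∃ e, k = e ^ 2 := by
  intro k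
  induction k using Nat.strong_induction_on with
  | _ k ih =>
  intro W _ _ P hexp hk
  classical
  rcases subsingleton_or_nontrivial W with hs | hs
  · exact ⟨1, by rw [← hk, Nat.card_unique, one_pow]⟩
  obtain ⟨r, hr, hrd⟩ := Nat.exists_prime_and_dvd (Finite.one_lt_card (α := W)).ne'
  haveI := Fact.mk hr
  obtain ⟨x, hx⟩ := exists_prime_orderOf_dvd_card' r hrd
  have hx1 : x ≠ 1 := fun h => by rw [h, orderOf_one] at hx; exact hr.one_lt.ne hx
  obtain ⟨y₀, hy₀⟩ : ∃ y, P.ω x y ≠ 1 := by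
    by_contra hc
    push Not at hc
    exact hx1 (P.nondeg x hc)
  obtain ⟨s, rfl⟩ : r ∣ n := hx ▸ orderOf_dvd_of_pow_eq_one (hexp x)
  have hrs : s.Coprime r := ((Nat.coprime_of_squarefree_mul hn)).symm
  have hωr : ∀ z, P.ω x z ^ r = 1 := fun z => by
    rw [← MonoidHom.pow_apply, ← map_pow, ← hx, pow_orderOf_eq_one, map_one, MonoidHom.one_apply]
  obtain ⟨y, hydef⟩ : ∃ y, y = y₀ ^ s := ⟨_, rfl⟩
  have hy : y ^ r = 1 := by rw [hydef, ← pow_mul, mul_comm, hexp]
  have hxy : P.ω x y ≠ 1 := by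
    intro h
    rw [hydef, map_pow] at h
    exact hy₀ (orderOf_eq_one_iff.mp (Nat.eq_one_of_dvd_coprimes hrs
      (orderOf_dvd_of_pow_eq_one h) (orderOf_dvd_of_pow_eq_one (hωr _))))
  have hy1 : y ≠ 1 := fun h => hxy (by rw [h, map_one])
  have hdiv : ∀ a : ℕ, P.ω x y ^ a = 1 → r ∣ a := fun a ha =>
    (orderOf_eq_prime (hωr y) hxy) ▸ orderOf_dvd_of_pow_eq_one ha
  have hyx : ∀ a : ℕ, P.ω y x ^ a = 1 → r ∣ a := fun a ha => hdiv a (by
    rw [P.swap, inv_pow, ha, inv_one])
  let f : (Subgroup.zpowers x × Subgroup.zpowers y) →* W :=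
    (Subgroup.zpowers x).subtype.coprod (Subgroup.zpowers y).subtype
  have hrepr : ∀ z : Subgroup.zpowers x × Subgroup.zpowers y, ∃ a b : ℕ,
      (z.1 : W) = x ^ a ∧ (z.2 : W) = y ^ b := fun z => by
    obtain ⟨a, ha⟩ := (Submonoid.mem_powers_iff _ _).mp
      (mem_powers_iff_mem_zpowers.mpr z.1.2)
    obtain ⟨b, hb⟩ := (Submonoid.mem_powers_iff _ _).mp
      (mem_powers_iff_mem_zpowers.mpr z.2.2)
    exact ⟨a, b, ha.symm, hb.symm⟩
  have key : ∀ z, (∀ m ∈ f.range, P.ω (f z) m = 1) → z = 1 := by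
    intro z hz
    obtain ⟨a, b, ha, hb⟩ := hrepr z
    have hfz : f z = x ^ a * y ^ b := by
      show (z.1 : W) * z.2 = _
      rw [ha, hb]
    have h1 := hz x ⟨(⟨x, Subgroup.mem_zpowers x⟩, 1), mul_one x⟩
    have h2 := hz y ⟨(1, ⟨y, Subgroup.mem_zpowers y⟩), one_mul y⟩
    simp only [hfz, map_mul, MonoidHom.mul_apply, map_pow, MonoidHom.pow_apply] at h1 h2
    rw [P.alt, one_pow, one_mul] at h1
    rw [P.alt, one_pow, mul_one] at h2
    refine Prod.ext (Subtype.ext ?_) (Subtype.ext ?_)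
    · show (z.1 : W) = 1
      rw [ha]
      exact orderOf_dvd_iff_pow_eq_one.mp (hx ▸ hdiv a h2)
    · show (z.2 : W) = 1
      rw [hb]
      exact orderOf_dvd_iff_pow_eq_one.mp ((orderOf_eq_prime hy hy1).symm ▸ hyx b h1)
  have hinj : Function.Injective f := by
    rw [injective_iff_map_eq_one]
    intro z hz
    exact key z fun m _ => by rw [hz, map_one, MonoidHom.one_apply]
  have hM : f.range ⊓ P.perp f.range = ⊥ := by
    rw [Subgroup.eq_bot_iff_forall]
    rintro _ ⟨⟨z, rfl⟩, hw⟩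
    rw [key z (P.mem_perp.mp hw), map_one]
  have hcard : Nat.card f.range = r ^ 2 := by
    rw [← Nat.card_congr (MonoidHom.ofInjective hinj).toEquiv, Nat.card_prod, Nat.card_zpowers,
      Nat.card_zpowers, hx, orderOf_eq_prime hy hy1, sq]
  have hprod : Nat.card f.range * Nat.card (P.perp f.range) = Nat.card W := by
    have hc : Subgroup.IsComplement' f.range (P.perp f.range) :=
      Subgroup.isComplement'_of_disjoint_and_mul_eq_univ (disjoint_iff.mpr hM) (by
        rw [← Subgroup.normal_mul, P.sup_perp hM, Subgroup.coe_top])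
    exact hc.card_mul_card
  obtain ⟨e, he⟩ := ih _ (by
      rw [← hk, ← hprod, hcard]
      have h4 : 4 ≤ r ^ 2 := Nat.pow_le_pow_left hr.two_le 2
      have hpos : 0 < Nat.card (P.perp f.range) := Nat.card_pos
      nlinarith) _ (P.restrict (P.perp_inf hM))
    (fun w => Subtype.ext (hexp w)) rfl
  exact ⟨r * e, by rw [← hk, ← hprod, hcard, he, mul_pow]⟩

omit [Finite U] [IsCyclic U] in
/-- A pairing-preserving automorphism maps orthogonals to orthogonals. -/
theorem perp_invariant {M : Subgroup W} (h : MulAut W)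
    (hω : ∀ x y, P.ω (h x) (h y) = P.ω x y) (hM : ∀ w ∈ M, h w ∈ M) :
    ∀ w ∈ P.perp M, h w ∈ P.perp M := by
  intro w hw
  rw [P.mem_perp]
  intro m hm
  have hsurj : ∃ m' ∈ M, h m' = m := by
    let g : M → M := fun x => ⟨h x, hM x x.2⟩
    have hg : Function.Injective g := fun a b e =>
      Subtype.ext (h.injective (congrArg Subtype.val e))
    obtain ⟨m', hm'⟩ := (Finite.injective_iff_surjective.mp hg) ⟨m, hm⟩
    exact ⟨m', m'.2, congrArg Subtype.val hm'⟩
  obtain ⟨m', hm', rfl⟩ := hsurj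
  rw [hω, P.mem_perp.mp hw m' hm']

end Pairing

end Cfsg.Agent.SolvBound
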