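import Mathlib
import Cfsg.Agent.ClassCount.PiCoset

/-!
# Bounds for the class number of all subgroups of a group
-/

set_option autoImplicit false
set_option linter.style.haveILetI false

namespace Cfsg.Agent.SolvBound

open Subgroup

/-- The class number. -/
noncomputable abbrev kc (G : Type*) [Group G] : ℕ := Nat.card (ConjClasses G)

/-- All subgroups of `G` have at most `b` classes. -/
def KB (G : Type*) [Group G] (b : ℕ) : Prop := ∀ X : Subgroup G, kc X ≤ b

theorem kc_congr {A B : Type*} [Group A] [Group B] (e : A ≃* B) : kc A = kc B := by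
  refine Nat.card_eq_of_bijective (ConjClasses.map e.toMonoidHom) ⟨?_, ?_⟩
  · intro a b h
    obtain ⟨x, rfl⟩ := ConjClasses.mk_surjective a
    obtain ⟨y, rfl⟩ := ConjClasses.mk_surjective b
    have h1 : ConjClasses.mk (e x) = ConjClasses.mk (e y) := h
    rw [ConjClasses.mk_eq_mk_iff_isConj] at h1 ⊢
    simpa using MonoidHom.map_isConj e.symm.toMonoidHom h1
  · exact ConjClasses.map_surjective e.surjective

theorem kc_le_card (G : Type*) [Group G] [Finite G] : kc G ≤ Nat.card G :=
  Nat.card_le_card_of_surjective ConjClasses.mk ConjClasses.mk_surjective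

theorem kc_pos (G : Type*) [Group G] [Finite G] : 0 < kc G := by
  haveI : Nonempty (ConjClasses G) := ⟨ConjClasses.mk 1⟩
  exact Nat.card_pos

/-- `k(G) ≤ k(N) k(G/N)`. -/
theorem kc_le_mul {G : Type*} [Group G] [Finite G] (N : Subgroup G) [N.Normal] :
    kc G ≤ kc N * kc (G ⧸ N) := by
  have h := ClassCount.card_piClasses_le N (Set.univ : Set ℕ)
  have e : ∀ (H : Type _) [Group H], Nat.card {C : ConjClasses H // ∃ g, ConjClasses.mk g = C ∧
      ∀ q : ℕ, q.Prime → q ∣ orderOf g → q ∈ (Set.univ : Set ℕ)} = kc H := fun H _ =>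
    Nat.card_congr (Equiv.subtypeUnivEquiv fun C => by
      obtain ⟨g, rfl⟩ := ConjClasses.mk_surjective C
      exact ⟨g, rfl, fun _ _ _ => trivial⟩)
  rw [e G, e N, e (G ⧸ N)] at h
  exact h

theorem kc_le_of_surjective {G H : Type*} [Group G] [Group H] [Finite G] (f : G →* H)
    (hf : Function.Surjective f) : kc H ≤ kc G :=
  Nat.card_le_card_of_surjective _ (ConjClasses.map_surjective hf)

namespace KB

variable {G H : Type*} [Group G] [Group H] {a b : ℕ}

theorem mono (h : KB G a) (hab : a ≤ b) : KB G b := fun X => (h X).trans hab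

theorem of_card_le [Finite G] (h : Nat.card G ≤ b) : KB G b := fun X =>
  (kc_le_card X).trans ((Nat.card_le_card_of_injective _ X.subtype_injective).trans h)

theorem kc_le (h : KB G b) : kc G ≤ b := (kc_congr Subgroup.topEquiv).symm.trans_le (h ⊤)

theorem comap (h : KB H b) (f : G →* H) (hf : Function.Injective f) : KB G b := fun X =>
  (kc_congr (X.equivMapOfInjective f hf)).trans_le (h (X.map f))

theorem congr (h : KB H b) (e : G ≃* H) : KB G b := h.comap e.toMonoidHom e.injective

theorem subgroup (h : KB G b) (K : Subgroup G) : KB K b := h.comap K.subtype K.subtype_injective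

theorem of_surjective [Finite G] (h : KB G b) (f : G →* H) (hf : Function.Surjective f) :
    KB H b := fun X => by
  refine (kc_le_of_surjective (f.subgroupComap X) ?_).trans (h (X.comap f))
  exact MonoidHom.subgroupComap_surjective_of_surjective f X hf

/-- Extensions. -/
theorem ext [Finite G] (f : G →* H) (hker : KB f.ker a) (him : KB f.range b) :
    KB G (a * b) := by
  intro X
  let g : X →* f.range := f.rangeRestrict.comp X.subtype
  refine (kc_le_mul g.ker).trans (Nat.mul_le_mul ?_ ?_)
  · let j : g.ker →* f.ker :=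
      { toFun := fun x => ⟨((x : X) : G), congrArg Subtype.val x.2⟩
        map_one' := rfl
        map_mul' := fun _ _ => rfl }
    refine (kc_congr (MonoidHom.ofInjective (f := j) ?_)).trans_le (hker j.range)
    intro x y h
    exact Subtype.ext (Subtype.ext (congrArg (fun z : f.ker => (z : G)) h))
  · exact (kc_congr (QuotientGroup.quotientKerEquivRange g)).trans_le (him g.range)

/-- A jointly injective family of homomorphisms. -/
theorem pi {ι : Type*} {Y : ι → Type*} [∀ i, Group (Y i)] (b : ι → ℕ)
    (hY : ∀ i, KB (Y i) (b i)) (s : Finset ι) :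
    ∀ {X : Type*} [Group X] [Finite X] (f : ∀ i, X →* Y i),
      (∀ x, (∀ i ∈ s, f i x = 1) → x = 1) → KB X (∏ i ∈ s, b i) := by
  classical
  induction s using Finset.induction_on with
  | empty =>
    intro X _ _ f hinj
    haveI : Subsingleton X := ⟨fun x y => by rw [hinj x (by simp), hinj y (by simp)]⟩
    exact KB.of_card_le (by simpa using (Finite.card_le_one_iff_subsingleton.mpr ‹_›))
  | @insert i s hi ih =>
    intro X _ _ f hinj
    rw [Finset.prod_insert hi, mul_comm]
    refine KB.ext (f i) (ih (fun j => (f j).comp (f i).ker.subtype) ?_) ((hY i).subgroup _)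
    intro x hx
    refine Subtype.ext (hinj x fun j hj => ?_)
    rcases Finset.mem_insert.mp hj with rfl | hj
    · exact x.2
    · exact hx j hj

theorem pi_univ {ι : Type*} [Fintype ι] {Y : ι → Type*} [∀ i, Group (Y i)] (b : ι → ℕ)
    (hY : ∀ i, KB (Y i) (b i)) {X : Type*} [Group X] [Finite X] (f : ∀ i, X →* Y i)
    (hinj : ∀ x, (∀ i, f i x = 1) → x = 1) : KB X (∏ i, b i) :=
  pi b hY Finset.univ f fun x hx => hinj x fun i => hx i (Finset.mem_univ i)

end KB

/-- Orders: a jointly injective family of homomorphisms. -/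
theorem card_le_prod {ι : Type*} [Fintype ι] {Y : ι → Type*} [∀ i, Group (Y i)] [∀ i, Finite (Y i)]
    {X : Type*} [Group X] (f : ∀ i, X →* Y i) (hinj : ∀ x, (∀ i, f i x = 1) → x = 1) :
    Nat.card X ≤ ∏ i, Nat.card (f i).range := by
  rw [← Nat.card_pi]
  refine Nat.card_le_card_of_injective (fun x i => (f i).rangeRestrict x) fun x y h => ?_
  rw [← inv_mul_eq_one]
  refine hinj _ fun i => ?_
  have := congrArg Subtype.val (congrFun h i)
  simp only [MonoidHom.coe_rangeRestrict] at this
  rw [map_mul, map_inv, this, inv_mul_cancel]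

/-- Orders: kernel and image. -/
theorem card_eq_ker_mul_range {X Y : Type*} [Group X] [Group Y] (f : X →* Y) :
    Nat.card X = Nat.card f.ker * Nat.card f.range := by
  rw [← Subgroup.card_mul_index f.ker, Subgroup.index_ker]

/-- The class number through centraliser sizes. -/
theorem kc_mul_card_le {G : Type*} [Group G] [Fintype G] (c : G → ℕ)
    (h : ∀ g : G, Nat.card (Subgroup.centralizer ({g} : Set G)) ≤ c g) :
    kc G * Nat.card G ≤ ∑ g : G, c g := by
  classical
  rw [kc, ← card_comm_eq_card_conjClasses_mul_card]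
  let e : {p : G × G // Commute p.1 p.2} ≃ Σ g : G, Subgroup.centralizer ({g} : Set G) :=
    { toFun := fun p => ⟨p.1.1, p.1.2, Subgroup.mem_centralizer_singleton_iff.2 p.2.symm.eq⟩
      invFun := fun z => ⟨(z.1, z.2.1),
        ((show Commute z.2.1 z.1 from Subgroup.mem_centralizer_singleton_iff.1 z.2.2)).symm⟩
      left_inv := fun _ => rfl
      right_inv := fun _ => rfl }
  rw [Nat.card_congr e, Nat.card_sigma]
  exact Finset.sum_le_sum fun g _ => h g

end Cfsg.Agent.SolvBound
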