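import Cfsg.Agent.SolvBound.Sym
import Cfsg.Agent.BaseSize.Setup

/-!
# The symplectic section of a soluble group with cyclic maximal abelian normal subgroup
-/

set_option autoImplicit false
set_option linter.unusedSectionVars false
set_option linter.style.haveILetI false

open scoped commutatorElement

namespace Cfsg.Agent.SolvBound

/-- A group with a central (in `lin`) cyclic subgroup `U` containing all normal abelian subgroups
above it. -/
structure Sys (G : Type*) [Group G] where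
  lin : Subgroup G
  U : Subgroup G
  lin_normal : lin.Normal
  U_normal : U.Normal
  U_le : U ≤ lin
  central : ∀ g ∈ lin, ∀ u ∈ U, g * u = u * g
  max_abelian : ∀ N : Subgroup G, N.Normal → (∀ x ∈ N, ∀ y ∈ N, x * y = y * x) → U ≤ N → N ≤ U
  cyclic : IsCyclic U

namespace Sys

open BaseSize.Semi (mul_pow_of_scalar_comm)

variable {G : Type*} [Group G] (S : Sys G)

/-- Normal, linear, abelian modulo `U`, of exponent `n` modulo `U`. -/
def IsB (n : ℕ) (B : Subgroup G) : Prop :=
  B.Normal ∧ S.U ≤ B ∧ B ≤ S.lin ∧ (∀ x ∈ B, ∀ y ∈ B, ⁅x, y⁆ ∈ S.U) ∧ ∀ x ∈ B, x ^ n ∈ S.U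

theorem isB_U (n : ℕ) : S.IsB n S.U := by
  refine ⟨S.U_normal, le_rfl, S.U_le, fun x hx y hy => ?_, fun x hx => S.U.pow_mem hx n⟩
  rw [commutatorElement_def]
  exact S.U.mul_mem (S.U.mul_mem (S.U.mul_mem hx hy) (S.U.inv_mem hx)) (S.U.inv_mem hy)

variable [Finite G]

/-- A maximal `IsB` subgroup contains its centraliser in the linear part, modulo `U`. -/
theorem centralizer_le (hsol : Group.IsSolvable G) {B : Subgroup G}
    (hB : S.IsB (∏ p ∈ (Nat.card G).primeFactors, p) B)
    (hmax : ∀ B', S.IsB (∏ p ∈ (Nat.card G).primeFactors, p) B' → B ≤ B' → B' ≤ B)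
    {g : G} (hg : g ∈ S.lin) (hc : ∀ b ∈ B, g * b = b * g) : g ∈ S.U := by
  classical
  set n := ∏ p ∈ (Nat.card G).primeFactors, p with hn
  obtain ⟨hBn, hUB, hBl, hBc, hBp⟩ := hB
  haveI := hBn
  haveI := S.U_normal
  by_contra hgU
  let C : Subgroup G := S.lin ⊓ Subgroup.centralizer (B : Set G)
  haveI : S.lin.Normal := S.lin_normal
  haveI hCn : C.Normal := inferInstanceAs (S.lin ⊓ Subgroup.centralizer (B : Set G)).Normal
  -- the last derived subgroup of `C` not inside the scalars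
  let D : ℕ → Subgroup G := fun i => Nat.rec C (fun _ H => ⁅H, H⁆) i
  have hDn : ∀ i, (D i).Normal := by
    intro i
    induction i with
    | zero => exact hCn
    | succ i ih => exact Subgroup.commutator_normal _ _
  have hDle : ∀ i, D i ≤ C := by
    intro i
    induction i with
    | zero => exact le_rfl
    | succ i ih =>
      haveI := hDn i
      exact le_trans (Subgroup.commutator_le_left _ _) ih
  have hDser : ∀ i, D i ≤ derivedSeries G i := by
    intro i
    induction i with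
    | zero => simp
    | succ i ih => rw [derivedSeries_succ]; exact Subgroup.commutator_mono ih ih
  obtain ⟨m, hm⟩ := hsol.solvable
  have hex : ∃ i, D i ≤ S.U := ⟨m, le_trans ((hDser m).trans hm.le) bot_le⟩
  have hg0 : g ∈ D 0 := ⟨hg, Subgroup.mem_centralizer_iff.mpr fun b hb => (hc b hb).symm⟩
  obtain ⟨i, hi, hi'⟩ : ∃ i, ¬ D i ≤ S.U ∧ D (i + 1) ≤ S.U := by
    by_contra hcon
    simp only [not_exists, not_and] at hcon
    have : ∀ i, ¬ D i ≤ S.U := by
      intro i
      induction i with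
      | zero => exact fun h => hgU (h hg0)
      | succ i ih => exact hcon i ih
    obtain ⟨i, hi⟩ := hex
    exact this i hi
  haveI := hDn i
  let E : Subgroup G := D i ⊔ S.U
  have hEn : E.Normal := @Subgroup.sup_normal _ _ (D i) S.U (hDn i) S.U_normal
  have hEC : E ≤ C := by
    refine sup_le (hDle i) ?_
    intro u hu
    exact ⟨S.U_le hu, Subgroup.mem_centralizer_iff.mpr fun b hb => S.central b (hBl hb) u hu⟩
  have hEcomm : ∀ x ∈ E, ∀ y ∈ E, ⁅x, y⁆ ∈ S.U := by
    intro x hx y hy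
    obtain ⟨a, ha, u, hu, rfl⟩ := Subgroup.mem_sup_of_normal_right.mp hx
    obtain ⟨b, hb, w, hw, rfl⟩ := Subgroup.mem_sup_of_normal_right.mp hy
    have hab : ⁅a, b⁆ ∈ S.U := hi' (Subgroup.commutator_mem_commutator ha hb)
    have hmk : ∀ s ∈ S.U, (QuotientGroup.mk' S.U) s = 1 := fun s hs =>
      (QuotientGroup.eq_one_iff s).mpr hs
    rw [← QuotientGroup.eq_one_iff, ← QuotientGroup.mk'_apply, map_commutatorElement, map_mul,
      map_mul, hmk u hu, hmk w hw, mul_one, mul_one, ← map_commutatorElement]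
    exact hmk _ hab
  -- an element of prime order modulo the scalars
  obtain ⟨x0, hx0, hx0U⟩ : ∃ x ∈ D i, x ∉ S.U := by simpa [SetLike.le_def] using hi
  have hx0E : x0 ∈ E := Subgroup.mem_sup_left hx0
  have hord : orderOf (QuotientGroup.mk' S.U x0) ≠ 1 := by
    rw [ne_eq, orderOf_eq_one_iff, QuotientGroup.mk'_apply, QuotientGroup.eq_one_iff]
    exact hx0U
  obtain ⟨r, hr, hrd⟩ := Nat.exists_prime_and_dvd hord
  obtain ⟨t, ht⟩ := hrd
  have htp : 0 < orderOf (QuotientGroup.mk' S.U x0) := orderOf_pos _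
  have htpos : 0 < t := Nat.pos_of_ne_zero fun e => by rw [e, mul_zero] at ht; omega
  have hx1U : x0 ^ t ∉ S.U := by
    rw [← QuotientGroup.eq_one_iff, ← QuotientGroup.mk'_apply, map_pow,
      ← orderOf_dvd_iff_pow_eq_one]
    intro hdvd
    have := Nat.le_of_dvd htpos hdvd
    have h2 := hr.two_le
    rw [ht] at this
    nlinarith
  have hx1r : (x0 ^ t) ^ r ∈ S.U := by
    rw [← QuotientGroup.eq_one_iff, ← QuotientGroup.mk'_apply, ← pow_mul, map_pow, mul_comm, ← ht,
      pow_orderOf_eq_one]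
  have hrn : r ∣ n := by
    refine Finset.dvd_prod_of_mem (fun p => p) (Nat.mem_primeFactors.mpr ⟨hr, ?_, Nat.card_pos.ne'⟩)
    refine dvd_trans ⟨t, ht⟩ (dvd_trans (orderOf_map_dvd _ _) (orderOf_dvd_natCard x0))
  -- the elements of `E` whose `n`-th power is scalar
  let B' : Subgroup G :=
    { carrier := {z | ∃ b ∈ B, ∃ e ∈ E, e ^ n ∈ S.U ∧ z = b * e}
      one_mem' := ⟨1, B.one_mem, 1, E.one_mem, by simp, (one_mul 1).symm⟩
      mul_mem' := by
        rintro _ _ ⟨b, hb, e, he, hen, rfl⟩ ⟨b', hb', e', he', hen', rfl⟩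
        refine ⟨b * b', B.mul_mem hb hb', e * e', E.mul_mem he he', ?_, ?_⟩
        · obtain ⟨c, hc', hcc⟩ : ∃ c ∈ S.U, c = ⁅e', e⁆ := ⟨_, hEcomm e' he' e he, rfl⟩
          have hlin : ∀ h ∈ E, c * h = h * c := fun h hh => (S.central h (hEC hh).1 c hc').symm
          have hsE : c ∈ E := Subgroup.mem_sup_right hc'
          have hxy : e' * e = c * (e * e') := by rw [hcc]; group
          have key := congrArg (Subtype.val : E → G) (mul_pow_of_scalar_comm
            (⟨e, he⟩ : E) ⟨e', he'⟩ ⟨c, hsE⟩ (fun h => Subtype.ext (hlin h h.2))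
            (Subtype.ext hxy) n)
          push_cast at key
          rw [key]
          exact S.U.mul_mem (S.U.pow_mem hc' _) (S.U.mul_mem hen hen')
        · have hcomm : b' * e = e * b' := Subgroup.mem_centralizer_iff.mp (hEC he).2 b' hb'
          calc b * e * (b' * e') = b * (e * b') * e' := by simp only [mul_assoc]
            _ = b * (b' * e) * e' := by rw [hcomm]
            _ = b * b' * (e * e') := by simp only [mul_assoc]
      inv_mem' := by
        rintro _ ⟨b, hb, e, he, hen, rfl⟩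
        refine ⟨b⁻¹, B.inv_mem hb, e⁻¹, E.inv_mem he,
          by rw [inv_pow]; exact S.U.inv_mem hen, ?_⟩
        rw [← mul_inv_rev, Subgroup.mem_centralizer_iff.mp (hEC he).2 b hb] }
  have hB' : S.IsB n B' := by
    refine ⟨⟨?_⟩, ?_, ?_, ?_, ?_⟩
    · rintro _ ⟨b, hb, e, he, hen, rfl⟩ a
      refine ⟨a * b * a⁻¹, hBn.conj_mem b hb a, a * e * a⁻¹,
        hEn.conj_mem e he a, ?_, by group⟩
      rw [conj_pow]
      exact S.U_normal.conj_mem _ hen a
    · intro u hu
      exact ⟨u, hUB hu, 1, E.one_mem, by simp, (mul_one u).symm⟩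
    · rintro _ ⟨b, hb, e, he, -, rfl⟩
      exact S.lin.mul_mem (hBl hb) (hEC he).1
    · rintro _ ⟨b, hb, e, he, -, rfl⟩ _ ⟨b', hb', e', he', -, rfl⟩
      rw [← QuotientGroup.eq_one_iff, ← QuotientGroup.mk'_apply]
      set π := QuotientGroup.mk' S.U
      have hU1 : ∀ s ∈ S.U, π s = 1 := fun s hs => (QuotientGroup.eq_one_iff s).mpr hs
      have c1 : Commute (π b) (π b') := by
        rw [← commutatorElement_eq_one_iff_commute, ← map_commutatorElement]
        exact hU1 _ (hBc b hb b' hb')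
      have c2 : Commute (π e) (π e') := by
        rw [← commutatorElement_eq_one_iff_commute, ← map_commutatorElement]
        exact hU1 _ (hEcomm e he e' he')
      have c3 : Commute (π b) (π e') :=
        (show Commute b e' from Subgroup.mem_centralizer_iff.mp (hEC he').2 b hb).map π
      have c4 : Commute (π b') (π e) :=
        (show Commute b' e from Subgroup.mem_centralizer_iff.mp (hEC he).2 b' hb').map π
      rw [map_commutatorElement, commutatorElement_eq_one_iff_commute, map_mul, map_mul]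
      exact (c1.mul_right c3).mul_left (c4.symm.mul_right c2)
    · rintro _ ⟨b, hb, e, he, hen, rfl⟩
      rw [Commute.mul_pow (Subgroup.mem_centralizer_iff.mp (hEC he).2 b hb)]
      exact S.U.mul_mem (hBp b hb) hen
  have hle : B' ≤ B := hmax B' hB' fun b hb => ⟨b, hb, 1, E.one_mem, by simp, (mul_one b).symm⟩
  have hx1B : x0 ^ t ∈ B := by
    obtain ⟨s, hs⟩ := hrn
    exact hle ⟨1, B.one_mem, x0 ^ t, E.pow_mem hx0E t,
      by rw [hs, pow_mul]; exact S.U.pow_mem hx1r s, (one_mul _).symm⟩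
  -- it centralises `B`, so it lies in an abelian normal subgroup
  let Z : Subgroup G := B ⊓ Subgroup.centralizer (B : Set G)
  refine hx1U (S.max_abelian Z inferInstance
    (fun x hx y hy => (Subgroup.mem_centralizer_iff.mp hx.2 y hy.1).symm) ?_ ?_)
  · intro c hc'
    exact ⟨hUB hc', Subgroup.mem_centralizer_iff.mpr fun b hb => S.central b (hBl hb) c hc'⟩
  · exact ⟨hx1B, (hEC (E.pow_mem hx0E t)).2⟩


theorem squarefree_prod (s : Finset ℕ) (hs : ∀ p ∈ s, p.Prime) : Squarefree (∏ p ∈ s, p) := by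
  refine Nat.squarefree_iff_factorization_le_one (Finset.prod_ne_zero_iff.mpr
    fun p hp => (hs p hp).ne_zero) |>.mpr fun p => ?_
  rw [Nat.factorization_prod_apply fun q hq => (hs q hq).ne_zero]
  calc ∑ q ∈ s, q.factorization p ≤ ∑ q ∈ s, if q = p then 1 else 0 :=
        Finset.sum_le_sum fun q hq => by
          rw [(hs q hq).factorization, Finsupp.single_apply]
    _ ≤ 1 := by rw [Finset.sum_ite_eq']; split_ifs <;> simp

end Sys

/-- The data: a maximal `B`. -/
structure BD (G : Type*) [Group G] extends Sys G where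
  B : Subgroup G
  n : ℕ
  hn : Squarefree n
  isB : toSys.IsB n B
  cent : ∀ g ∈ lin, (∀ b ∈ B, g * b = b * g) → g ∈ U

theorem Sys.exists_BD {G : Type*} [Group G] [Finite G] (S : Sys G) (hsol : Group.IsSolvable G) :
    ∃ D : BD G, D.toSys = S := by
  classical
  haveI : Nonempty {B : Subgroup G // S.IsB (∏ p ∈ (Nat.card G).primeFactors, p) B} :=
    ⟨⟨S.U, S.isB_U _⟩⟩
  obtain ⟨⟨B, hB⟩, hmax⟩ := Finite.exists_max
    (fun B : {B : Subgroup G // S.IsB (∏ p ∈ (Nat.card G).primeFactors, p) B} => Nat.card B.1)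
  exact ⟨{ toSys := S, B := B, n := _,
            hn := Sys.squarefree_prod _ fun p hp => Nat.prime_of_mem_primeFactors hp,
            isB := hB,
            cent := fun g hg hc => S.centralizer_le hsol hB
              (fun B' hB' hle => (Subgroup.eq_of_le_of_card_ge hle (hmax ⟨B', hB'⟩)).ge) hg hc },
    rfl⟩

namespace BD

variable {G : Type*} [Group G] (D : BD G)

theorem normal : D.B.Normal := D.isB.1

theorem U_le_B : D.U ≤ D.B := D.isB.2.1

theorem B_le_lin : D.B ≤ D.lin := D.isB.2.2.1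

theorem comm_mem {x y : G} (hx : x ∈ D.B) (hy : y ∈ D.B) : ⁅x, y⁆ ∈ D.U := D.isB.2.2.2.1 x hx y hy

/-- `U` inside `B`. -/
def UB : Subgroup D.B := D.U.subgroupOf D.B

instance : D.UB.Normal := Subgroup.Normal.subgroupOf D.U_normal _

/-- The symplectic section. -/
abbrev W : Type _ := D.B ⧸ D.UB

instance commGroupW : CommGroup D.W where
  mul_comm := by
    intro a b
    obtain ⟨a, rfl⟩ := QuotientGroup.mk_surjective a
    obtain ⟨b, rfl⟩ := QuotientGroup.mk_surjective b
    rw [← QuotientGroup.mk_mul, ← QuotientGroup.mk_mul, QuotientGroup.eq]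
    have h : ⁅(b : G)⁻¹, (a : G)⁻¹⁆ ∈ D.U := D.comm_mem (inv_mem b.2) (inv_mem a.2)
    show ((a * b)⁻¹ * (b * a) : D.B).1 ∈ D.U
    rw [show ((a * b)⁻¹ * (b * a) : D.B).1 = ⁅(b : G)⁻¹, (a : G)⁻¹⁆ by
      simp [commutatorElement_def, mul_assoc]]
    exact h

/-- `U` as a commutative group. -/
instance commGroupU : CommGroup D.U where
  mul_comm a b := Subtype.ext (D.central a (D.U_le a.2) b b.2)

theorem pow_eq_one (w : D.W) : w ^ D.n = 1 := by
  obtain ⟨a, rfl⟩ := QuotientGroup.mk_surjective w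
  rw [← QuotientGroup.mk_pow, QuotientGroup.eq_one_iff]
  exact D.isB.2.2.2.2 a a.2

/-- The commutator. -/
def com (x y : D.B) : D.U := ⟨⁅(x : G), (y : G)⁆, D.comm_mem x.2 y.2⟩

theorem com_mul_left (x x' y : D.B) : D.com (x * x') y = D.com x y * D.com x' y := by
  refine Subtype.ext ?_
  show ⁅(x : G) * x', (y : G)⁆ = ⁅(x : G), (y : G)⁆ * ⁅(x' : G), (y : G)⁆
  have h := D.central x (D.B_le_lin x.2) _ (D.comm_mem x'.2 y.2)
  have h' := D.central _ (D.U_le (D.comm_mem x.2 y.2)) _ (D.comm_mem x'.2 y.2)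
  calc ⁅(x : G) * x', (y : G)⁆ = (x : G) * ⁅(x' : G), (y : G)⁆ * (x : G)⁻¹ * ⁅(x : G), (y : G)⁆ := by
        simp only [commutatorElement_def]; group
    _ = ⁅(x' : G), (y : G)⁆ * ⁅(x : G), (y : G)⁆ := by rw [h, mul_inv_cancel_right]
    _ = _ := h'.symm

theorem com_mul_right (x y y' : D.B) : D.com x (y * y') = D.com x y * D.com x y' := by
  refine Subtype.ext ?_
  show ⁅(x : G), (y : G) * y'⁆ = ⁅(x : G), (y : G)⁆ * ⁅(x : G), (y' : G)⁆
  have h := D.central y (D.B_le_lin y.2) _ (D.comm_mem x.2 y'.2)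
  calc ⁅(x : G), (y : G) * y'⁆ = ⁅(x : G), (y : G)⁆ * ((y : G) * ⁅(x : G), (y' : G)⁆ * (y : G)⁻¹) := by
        simp only [commutatorElement_def]; group
    _ = _ := by rw [h, mul_inv_cancel_right]

theorem com_of_mem_left {u : D.B} (hu : (u : G) ∈ D.U) (y : D.B) : D.com u y = 1 :=
  Subtype.ext (commutatorElement_eq_one_iff_mul_comm.mpr (D.central y (D.B_le_lin y.2) _ hu).symm)

theorem com_of_mem_right {u : D.B} (hu : (u : G) ∈ D.U) (y : D.B) : D.com y u = 1 :=
  Subtype.ext (commutatorElement_eq_one_iff_mul_comm.mpr (D.central y (D.B_le_lin y.2) _ hu))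

/-- The commutator with a fixed element, on `W`. -/
def comHom (x : D.B) : D.W →* D.U :=
  QuotientGroup.lift D.UB (MonoidHom.mk' (D.com x) (D.com_mul_right x))
    fun _ hu => D.com_of_mem_right hu x

theorem comHom_mk (x y : D.B) : D.comHom x (y : D.W) = D.com x y := rfl

theorem ext_comHom {f g : D.W →* D.U} (h : ∀ y : D.B, f (y : D.W) = g (y : D.W)) : f = g :=
  MonoidHom.ext fun w => by
    obtain ⟨y, rfl⟩ := QuotientGroup.mk_surjective w
    exact h y

/-- The pairing. -/
def pairing : Pairing D.W D.U where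
  ω := QuotientGroup.lift D.UB (MonoidHom.mk' D.comHom fun x x' =>
      D.ext_comHom fun y => by
        rw [MonoidHom.mul_apply, comHom_mk, comHom_mk, comHom_mk, D.com_mul_left])
    fun x hu => D.ext_comHom fun y => by
      show D.com x y = 1
      exact D.com_of_mem_left hu y
  alt w := by
    obtain ⟨x, rfl⟩ := QuotientGroup.mk_surjective w
    exact Subtype.ext (commutatorElement_self (x : G))
  nondeg w h := by
    obtain ⟨x, rfl⟩ := QuotientGroup.mk_surjective w
    refine (QuotientGroup.eq_one_iff x).mpr (D.cent x (D.B_le_lin x.2) fun b hb => ?_)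
    exact commutatorElement_eq_one_iff_mul_comm.mp
      (congrArg Subtype.val (h ((⟨b, hb⟩ : D.B) : D.W)))

theorem pairing_mk (x y : D.B) : D.pairing.ω (x : D.W) (y : D.W) = D.com x y := rfl

/-- Conjugation. -/
def conjB (g : G) : D.B ≃* D.B :=
  haveI := D.normal
  MulAut.conjNormal g

theorem conjB_val (g : G) (b : D.B) : (D.conjB g b : G) = g * b * g⁻¹ := by
  haveI := D.normal
  exact MulAut.conjNormal_apply g b

theorem conjB_UB (g : G) : D.UB.map (D.conjB g).toMonoidHom = D.UB := by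
  refine le_antisymm ?_ ?_
  · rintro _ ⟨b, hb, rfl⟩
    show (D.conjB g b : G) ∈ D.U
    rw [D.conjB_val]
    exact D.U_normal.conj_mem _ hb g
  · intro b hb
    refine ⟨D.conjB g⁻¹ b, ?_, Subtype.ext ?_⟩
    · show (D.conjB g⁻¹ b : G) ∈ D.U
      rw [D.conjB_val]
      exact D.U_normal.conj_mem _ hb g⁻¹
    · show (D.conjB g (D.conjB g⁻¹ b) : G) = b
      rw [D.conjB_val, D.conjB_val]
      group

/-- The action of `G` on `W`. -/
def act : G →* MulAut D.W where
  toFun g := QuotientGroup.congr D.UB D.UB (D.conjB g) (D.conjB_UB g)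
  map_one' := MulEquiv.ext fun w => by
    obtain ⟨b, rfl⟩ := QuotientGroup.mk_surjective w
    show (((D.conjB 1) b : D.B) : D.W) = _
    congr 1
    exact Subtype.ext (by rw [D.conjB_val]; simp)
  map_mul' g h := MulEquiv.ext fun w => by
    obtain ⟨b, rfl⟩ := QuotientGroup.mk_surjective w
    show (((D.conjB (g * h)) b : D.B) : D.W) = (((D.conjB g) (D.conjB h b) : D.B) : D.W)
    congr 1
    exact Subtype.ext (by simp only [D.conjB_val]; group)

theorem act_mk (g : G) (b : D.B) : D.act g (b : D.W) = ((D.conjB g b : D.B) : D.W) := rfl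

theorem pairing_act {g : G} (hg : g ∈ D.lin) (v w : D.W) :
    D.pairing.ω (D.act g v) (D.act g w) = D.pairing.ω v w := by
  obtain ⟨x, rfl⟩ := QuotientGroup.mk_surjective v
  obtain ⟨y, rfl⟩ := QuotientGroup.mk_surjective w
  refine Subtype.ext ?_
  show ⁅(D.conjB g x : G), (D.conjB g y : G)⁆ = ⁅(x : G), (y : G)⁆
  rw [D.conjB_val, D.conjB_val, ← conjugate_commutatorElement,
    D.central g hg _ (D.comm_mem x.2 y.2), mul_inv_cancel_right]

theorem pairing_act_any (g : G) {v w : D.W} (h : D.pairing.ω v w = 1) :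
    D.pairing.ω (D.act g v) (D.act g w) = 1 := by
  obtain ⟨x, rfl⟩ := QuotientGroup.mk_surjective v
  obtain ⟨y, rfl⟩ := QuotientGroup.mk_surjective w
  refine Subtype.ext ?_
  show ⁅(D.conjB g x : G), (D.conjB g y : G)⁆ = 1
  have h' : ⁅(x : G), (y : G)⁆ = 1 := congrArg Subtype.val h
  rw [D.conjB_val, D.conjB_val, ← conjugate_commutatorElement, h', mul_one, mul_inv_cancel]

variable [Finite G]

/-- An invariant subgroup is non-degenerate. -/
theorem inf_perp {M : Subgroup D.W} (hM : ∀ g, ∀ w ∈ M, D.act g w ∈ M) :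
    M ⊓ D.pairing.perp M = ⊥ := by
  let A : Subgroup G :=
    ((M ⊓ D.pairing.perp M).comap (QuotientGroup.mk' D.UB)).map D.B.subtype
  have hUA : D.U ≤ A := fun u hu => ⟨⟨u, D.U_le_B hu⟩, by
    show ((⟨u, D.U_le_B hu⟩ : D.B) : D.W) ∈ M ⊓ D.pairing.perp M
    rw [show ((⟨u, D.U_le_B hu⟩ : D.B) : D.W) = 1 from (QuotientGroup.eq_one_iff _).mpr hu]
    exact one_mem _, rfl⟩
  have hAn : A.Normal := ⟨by
    rintro _ ⟨b, hb, rfl⟩ g
    have hinv : ∀ m ∈ M, ∃ m' ∈ M, D.act g m' = m := fun m hm => by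
      refine ⟨D.act g⁻¹ m, hM _ _ hm, ?_⟩
      rw [← MulAut.mul_apply, ← map_mul, mul_inv_cancel, map_one, MulAut.one_apply]
    refine ⟨D.conjB g b, ⟨hM g _ hb.1, D.pairing.mem_perp.mpr fun m hm => ?_⟩, D.conjB_val g b⟩
    obtain ⟨m', hm', rfl⟩ := hinv m hm
    exact D.pairing_act_any g (D.pairing.mem_perp.mp hb.2 m' hm')⟩
  have hAab : ∀ x ∈ A, ∀ y ∈ A, x * y = y * x := by
    rintro _ ⟨a, ha, rfl⟩ _ ⟨b, hb, rfl⟩
    exact commutatorElement_eq_one_iff_mul_comm.mp
      (congrArg Subtype.val (D.pairing.mem_perp.mp ha.2 _ hb.1))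
  have hAU := D.max_abelian A hAn hAab hUA
  rw [Subgroup.eq_bot_iff_forall]
  intro w hw
  obtain ⟨b, rfl⟩ := QuotientGroup.mk_surjective w
  exact (QuotientGroup.eq_one_iff b).mpr (hAU ⟨b, hw, rfl⟩)

/-- The kernel of the linear part on `W`. -/
theorem mem_B_of_act {g : G} (hg : g ∈ D.lin) (h : D.act g = 1) : g ∈ D.B := by
  haveI := D.cyclic
  have hmem : ∀ b : D.B, ⁅g, (b : G)⁆ ∈ D.U := fun b => by
    have h1 := DFunLike.congr_fun h (b : D.W)
    rw [D.act_mk, MulAut.one_apply, eq_comm, QuotientGroup.eq] at h1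
    have h2 : ((b⁻¹ * D.conjB g b : D.B) : G) ∈ D.U := h1
    have h3 := D.U_normal.conj_mem _ h2 (b : G)
    rw [Subgroup.coe_mul, D.conjB_val] at h3
    rw [commutatorElement_def]
    convert h3 using 1
    push_cast
    group
  let f : D.B →* D.U := MonoidHom.mk' (fun b => ⟨⁅g, (b : G)⁆, hmem b⟩) fun a b => by
    refine Subtype.ext ?_
    show ⁅g, (a : G) * b⁆ = ⁅g, (a : G)⁆ * ⁅g, (b : G)⁆
    have hc := D.central a (D.B_le_lin a.2) _ (hmem b)
    calc ⁅g, (a : G) * b⁆ = ⁅g, (a : G)⁆ * ((a : G) * ⁅g, (b : G)⁆ * (a : G)⁻¹) := by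
          simp only [commutatorElement_def]; group
      _ = _ := by rw [hc, mul_inv_cancel_right]
  let f' : D.W →* D.U := QuotientGroup.lift D.UB f fun u hu => Subtype.ext
    (commutatorElement_eq_one_iff_mul_comm.mpr (D.central g hg _ hu))
  haveI : Finite (D.W →* D.U) := Finite.of_injective _ DFunLike.coe_injective
  have hinj : Function.Injective (fun w => D.pairing.ω w) := fun v w (e : D.pairing.ω v = D.pairing.ω w) => by
    have := D.pairing.nondeg (v⁻¹ * w) fun x => by
      rw [map_mul, map_inv, e, inv_mul_cancel, MonoidHom.one_apply]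
    exact inv_mul_eq_one.mp this
  obtain ⟨w, hw⟩ := (hinj.bijective_of_nat_card_le card_monoidHom_le).2 f'
  obtain ⟨c, rfl⟩ := QuotientGroup.mk_surjective w
  have hcg : (c : G)⁻¹ * g ∈ D.U := by
    refine D.cent _ (D.lin.mul_mem (inv_mem (D.B_le_lin c.2)) hg) fun b hb => ?_
    have e := congrArg Subtype.val (DFunLike.congr_fun hw ((⟨b, hb⟩ : D.B) : D.W))
    change ⁅(c : G), b⁆ = ⁅g, b⁆ at e
    simp only [commutatorElement_def] at e
    have e' : (c : G) * b * (c : G)⁻¹ = g * b * g⁻¹ := mul_right_cancel e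
    calc (c : G)⁻¹ * g * b = (c : G)⁻¹ * (g * b * g⁻¹) * g := by group
      _ = (c : G)⁻¹ * ((c : G) * b * (c : G)⁻¹) * g := by rw [e']
      _ = b * ((c : G)⁻¹ * g) := by group
  have := D.B.mul_mem c.2 (D.U_le_B hcg)
  rwa [mul_inv_cancel_left] at this

/-- The linear part acting on `W`. -/
def linRange : Subgroup (MulAut D.W) := (D.act.comp D.lin.subtype).range

theorem linRange_crm : CRM D.linRange := by
  classical
  haveI := D.cyclic
  have hinvAct : ∀ (g : G) (w : D.W), D.act g (D.act g⁻¹ w) = w := fun g w => by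
    rw [← MulAut.mul_apply, ← map_mul, mul_inv_cancel, map_one, MulAut.one_apply]
  -- the socle of `lin` on `W` is everything
  intro M hM
  let Inv : Subgroup D.W → Prop := fun A => ∀ g ∈ D.lin, ∀ w ∈ A, D.act g w ∈ A
  have hMinv : Inv M := fun g hg w hw => hM _ ⟨⟨g, hg⟩, rfl⟩ w hw
  let Min : Subgroup D.W → Prop := fun A => Inv A ∧ A ≠ ⊥ ∧ ∀ A', Inv A' → A' ≤ A → A' = ⊥ ∨ A' = A
  let Soc : Subgroup D.W := ⨆ A : {A : Subgroup D.W // Min A}, A.1
  have hmap : ∀ (g : G) (A : Subgroup D.W), Min A → Min (A.map (D.act g).toMonoidHom) := by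
    intro g A hA
    have hpull : ∀ (g' : G) (A' : Subgroup D.W), Inv A' → Inv (A'.map (D.act g').toMonoidHom) := by
      rintro g' A' hA' h hh _ ⟨a, ha, rfl⟩
      have hc : g'⁻¹ * h * g' ∈ D.lin := by
        simpa using D.lin_normal.conj_mem h hh g'⁻¹
      refine ⟨_, hA' _ hc a ha, ?_⟩
      show D.act g' (D.act (g'⁻¹ * h * g') a) = D.act h (D.act g' a)
      rw [← MulAut.mul_apply, ← MulAut.mul_apply, ← map_mul, ← map_mul]
      group
    refine ⟨hpull g A hA.1, fun h => hA.2.1 ?_, fun A' hA' hle => ?_⟩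
    · exact (Subgroup.map_eq_bot_iff_of_injective _ (D.act g).injective).mp h
    · have hback : (A'.map (D.act g⁻¹).toMonoidHom).map (D.act g).toMonoidHom = A' := by
        rw [Subgroup.map_map]
        convert Subgroup.map_id A' using 2
        exact MonoidHom.ext (hinvAct g)
      rcases hA.2.2 _ (hpull g⁻¹ A' hA') (by
        rintro _ ⟨a, ha, rfl⟩
        obtain ⟨b, hb, rfl⟩ := hle ha
        show D.act g⁻¹ (D.act g b) ∈ A
        rw [← MulAut.mul_apply, ← map_mul, inv_mul_cancel, map_one, MulAut.one_apply]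
        exact hb) with h | h
      · left; rw [← hback, h, Subgroup.map_bot]
      · right; rw [← hback, h]
  have hSocG : ∀ g, ∀ w ∈ Soc, D.act g w ∈ Soc := fun g w hw => by
    have : Soc.map (D.act g).toMonoidHom ≤ Soc := by
      rw [Subgroup.map_iSup]
      exact iSup_le fun A => le_iSup_of_le ⟨_, hmap g _ A.2⟩ le_rfl
    exact this ⟨w, hw, rfl⟩
  have hexmin : ∀ A, Inv A → A ≠ ⊥ → ∃ A', Min A' ∧ A' ≤ A := by
    intro A hA hA0
    obtain ⟨A', ⟨h1, h2, h3⟩, hmin⟩ :=
      (Set.toFinite {A' : Subgroup D.W | Inv A' ∧ A' ≠ ⊥ ∧ A' ≤ A}).exists_minimal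
        ⟨A, hA, hA0, le_rfl⟩
    refine ⟨A', ⟨h1, h2, fun A'' hi hle => ?_⟩, h3⟩
    by_cases h : A'' = ⊥
    · exact Or.inl h
    · exact Or.inr (le_antisymm hle (hmin ⟨hi, h, hle.trans h3⟩ hle))
  have hnd := D.inf_perp hSocG
  have hperp : D.pairing.perp Soc = ⊥ := by
    by_contra hne
    obtain ⟨A, hA, hle⟩ := hexmin _ (fun g hg w hw =>
      D.pairing.perp_invariant (D.act g) (D.pairing_act hg) (hSocG g) w hw) hne
    refine hA.2.1 (le_bot_iff.mp ?_)
    rw [← hnd]
    exact le_inf (le_iSup (fun A : {A : Subgroup D.W // Min A} => A.1) ⟨A, hA⟩) hle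
  have hSoc : Soc = ⊤ := by
    have := D.pairing.sup_perp hnd
    rwa [hperp, sup_bot_eq] at this
  -- a maximal invariant subgroup meeting `M` trivially
  obtain ⟨C, ⟨hC, hMC⟩, hmax⟩ :=
    (Set.toFinite {C : Subgroup D.W | Inv C ∧ M ⊓ C = ⊥}).exists_maximal
      ⟨⊥, ⟨fun g _ w hw => by
          rw [Subgroup.mem_bot] at hw ⊢; rw [hw, map_one], inf_bot_eq M⟩⟩
  refine ⟨C, ?_, hMC, ?_⟩
  · rintro _ ⟨⟨g, hg⟩, rfl⟩ w hw
    exact hC g hg w hw
  rw [eq_top_iff, ← hSoc]
  refine iSup_le fun ⟨A, hA⟩ => ?_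
  have hAMC : Inv (A ⊓ (M ⊔ C)) := fun g hg w hw => by
    refine ⟨hA.1 g hg w hw.1, ?_⟩
    obtain ⟨m, hm, c, hc, rfl⟩ := Subgroup.mem_sup.mp hw.2
    rw [map_mul]
    exact Subgroup.mul_mem_sup (hMinv g hg m hm) (hC g hg c hc)
  rcases hA.2.2 _ hAMC inf_le_left with h | h
  · exfalso
    have hCA : Inv (C ⊔ A) := fun g hg w hw => by
      obtain ⟨c, hc, a, ha, rfl⟩ := Subgroup.mem_sup.mp hw
      rw [map_mul]
      exact Subgroup.mul_mem_sup (hC g hg c hc) (hA.1 g hg a ha)
    have hdis : M ⊓ (C ⊔ A) = ⊥ := by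
      rw [Subgroup.eq_bot_iff_forall]
      intro x hx
      obtain ⟨c, hc, a, ha, rfl⟩ := Subgroup.mem_sup.mp hx.2
      have ha' : a ∈ A ⊓ (M ⊔ C) := by
        refine ⟨ha, ?_⟩
        have := Subgroup.mul_mem_sup hx.1 (C.inv_mem hc)
        rwa [mul_comm c a, mul_inv_cancel_right] at this
      rw [h, Subgroup.mem_bot] at ha'
      subst ha'
      rw [mul_one] at hx ⊢
      have : c ∈ M ⊓ C := ⟨hx.1, hc⟩
      rwa [hMC, Subgroup.mem_bot] at this
    have hle : C ⊔ A ≤ C := hmax ⟨hCA, hdis⟩ le_sup_left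
    refine hA.2.1 (le_bot_iff.mp ?_)
    rw [← h]
    exact le_inf le_rfl ((le_sup_right.trans hle).trans le_sup_right)
  · exact h.symm.le.trans inf_le_right

/-- The section has square order. -/
theorem exists_sq : ∃ e, Nat.card D.W = e ^ 2 := by
  haveI := D.cyclic
  exact Pairing.exists_sq D.hn _ D.W D.pairing D.pow_eq_one rfl

/-- Orders. -/
theorem card_B : Nat.card D.B = Nat.card D.W * Nat.card D.U := by
  rw [Subgroup.card_eq_card_quotient_mul_card_subgroup D.UB,
    show Nat.card D.UB = Nat.card D.U from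
      Nat.card_congr (Subgroup.subgroupOfEquivOfLe D.U_le_B).toEquiv]

theorem ker_le : (D.act.comp D.lin.subtype).ker ≤ D.B.subgroupOf D.lin := fun g hg =>
  D.mem_B_of_act g.2 hg

end BD

end Cfsg.Agent.SolvBound
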