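import Cfsg.Agent.SolvBound.Sym

/-!
# Automorphism groups of abelian groups as linear groups on a type in `Type`
-/

set_option autoImplicit false
set_option linter.style.haveILetI false

namespace Cfsg.Agent.SolvBound

/-- Automorphisms as additive endomorphisms. -/
def toEnd (W : Type*) [CommGroup W] : MulAut W →* (AddMonoid.End (Additive W))ˣ :=
  MonoidHom.toHomUnits
    { toFun := fun f => (MonoidHom.toAdditive f.toMonoidHom : Additive W →+ Additive W)
      map_one' := AddMonoidHom.ext fun _ => rfl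
      map_mul' := fun _ _ => AddMonoidHom.ext fun _ => rfl }

theorem toEnd_apply {W : Type*} [CommGroup W] (f : MulAut W) (w : W) :
    toEnd W f • Additive.ofMul w = Additive.ofMul (f w) := rfl

theorem toEnd_injective (W : Type*) [CommGroup W] : Function.Injective (toEnd W) := fun _ _ h =>
  MulEquiv.ext fun w => congrArg Additive.toMul
    (congrArg (fun u : (AddMonoid.End (Additive W))ˣ => u • Additive.ofMul w) h)

theorem toEnd_cr {W : Type*} [CommGroup W] {H : Subgroup (MulAut W)} (h : CRM H) :
    CR (H.map (toEnd W)) := by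
  intro U hU
  obtain ⟨M', hM', hinf, hsup⟩ := h (AddSubgroup.toSubgroup' U) fun g hg w hw =>
    hU _ ⟨g, hg, rfl⟩ (Additive.ofMul w) hw
  refine ⟨Subgroup.toAddSubgroup M', ?_, ?_, ?_⟩
  · rintro _ ⟨g, hg, rfl⟩ v hv
    exact hM' g hg v.toMul hv
  · rw [AddSubgroup.eq_bot_iff_forall]
    intro v hv
    have : v.toMul ∈ AddSubgroup.toSubgroup' U ⊓ M' := ⟨hv.1, hv.2⟩
    rw [hinf, Subgroup.mem_bot] at this
    exact this
  · rw [AddSubgroup.eq_top_iff']
    intro v
    obtain ⟨a, ha, b, hb, e⟩ := Subgroup.mem_sup.mp (hsup ▸ Subgroup.mem_top v.toMul :)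
    exact AddSubgroup.mem_sup.mpr ⟨Additive.ofMul a, ha, Additive.ofMul b, hb, e⟩

/-- An automorphism group as a linear group on a type in `Type`. -/
theorem exists_transport {W : Type*} [CommGroup W] [Finite W] (H : Subgroup (MulAut W))
    (hsol : Group.IsSolvable H) (hcr : CRM H) :
    ∃ (V : Type) (_ : AddCommGroup V) (_ : Finite V) (φ : W ≃ V)
      (H' : Subgroup (AddMonoid.End V)ˣ) (e : H ≃* H'),
      (∀ a b, φ (a * b) = φ a + φ b) ∧
      (∀ (g : H) w, φ ((g : MulAut W) w) = (e g : (AddMonoid.End V)ˣ) • φ w) ∧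
      Group.IsSolvable H' ∧ CR H' := by
  let E : W ≃* Shrink.{0} W := Shrink.mulEquiv.symm
  let f : MulAut W →* (AddMonoid.End (Additive (Shrink.{0} W)))ˣ :=
    (toEnd (Shrink.{0} W)).comp (MulAut.congr E).toMonoidHom
  have hf : Function.Injective f := (toEnd_injective _).comp (MulAut.congr E).injective
  have hcr' : CRM (H.map (MulAut.congr E).toMonoidHom) := by
    intro M hM
    obtain ⟨M', hM', hinf, hsup⟩ := hcr (M.comap E.toMonoidHom) fun g hg w hw => by
      have := hM _ ⟨g, hg, rfl⟩ (E w) hw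
      simpa using this
    refine ⟨M'.map E.toMonoidHom, ?_, ?_, ?_⟩
    · rintro _ ⟨g, hg, rfl⟩ _ ⟨w, hw, rfl⟩
      exact ⟨g w, hM' g hg w hw, by simp⟩
    · rw [← Subgroup.map_comap_eq_self_of_surjective (f := E.toMonoidHom) E.surjective M,
        ← Subgroup.map_inf _ _ _ E.injective, hinf, Subgroup.map_bot]
    · rw [← Subgroup.map_comap_eq_self_of_surjective (f := E.toMonoidHom) E.surjective M,
        ← Subgroup.map_sup, hsup, Subgroup.map_top_of_surjective _ E.surjective]
  refine ⟨Additive (Shrink.{0} W), inferInstance, inferInstanceAs (Finite (Shrink.{0} W)),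
    E.toEquiv.trans Additive.ofMul, H.map f, H.equivMapOfInjective f hf, fun a b => ?_, fun g w => ?_,
    (haveI := hsol; Group.isSolvable_of_surjective (f := (H.equivMapOfInjective f hf).toMonoidHom)
      (H.equivMapOfInjective f hf).surjective), ?_⟩
  · exact congrArg Additive.ofMul (map_mul E a b)
  · show Additive.ofMul (E ((g : MulAut W) w)) = f g • Additive.ofMul (E w)
    show _ = Additive.ofMul (E ((g : MulAut W) (E.symm (E w))))
    rw [E.symm_apply_apply]
  · rw [← Subgroup.map_map]
    exact toEnd_cr hcr'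

end Cfsg.Agent.SolvBound
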