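import Cfsg.Agent.SolvBound.Prim
import Cfsg.Agent.SolvBound.Transport

/-!
# The order of a soluble completely reducible linear group: `9 |H|² ≤ |V|⁵`
-/

set_option autoImplicit false
set_option linter.style.haveILetI false
set_option linter.unusedSectionVars false

namespace Cfsg.Agent.SolvBound

open BaseSize

/-- Automorphisms fix `1`. -/
theorem card_mulAut_le (W : Type*) [Group W] [Finite W] :
    Nat.card (MulAut W) ≤ (Nat.card W - 1).factorial := by
  classical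
  haveI : Fintype W := Fintype.ofFinite W
  have hc : Nat.card {w : W // w ≠ 1} = Nat.card W - 1 := by
    rw [Nat.card_eq_fintype_card, Nat.card_eq_fintype_card, Fintype.card_subtype_compl,
      Fintype.card_subtype_eq]
  rw [← hc, ← Nat.card_perm]
  refine Nat.card_le_card_of_injective
    (fun f : MulAut W => (Equiv.Perm.subtypePerm f.toEquiv fun w => by
      simp [EmbeddingLike.map_eq_one_iff] : Equiv.Perm {w : W // w ≠ 1})) fun f g h => ?_
  ext w
  by_cases hw : w = 1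
  · simp [hw]
  · exact congrArg Subtype.val (Equiv.congr_fun h ⟨w, hw⟩)

theorem eight_sq_le : ∀ d : ℕ, 8 * d ^ 2 ≤ 9 * 2 ^ d := by
  intro d
  rcases Nat.lt_or_ge d 3 with hd | hd
  · interval_cases d <;> norm_num
  induction d, hd using Nat.le_induction with
  | base => norm_num
  | succ d hd ih =>
    rw [pow_succ 2 d]
    nlinarith

theorem pow14_le : ∀ e : ℕ, 4 ≤ e → e ^ 14 ≤ 3 ^ (5 * e - 2) ∧ 9 * e ^ 14 ≤ 8 * 4 ^ (5 * e - 3) := by
  intro e he
  induction e, he using Nat.le_induction with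
  | base => norm_num
  | succ e he ih =>
    have h1 : (e + 1) * 4 ≤ e * 5 := by omega
    have h2 : (e + 1) ^ 14 * 4 ^ 14 ≤ e ^ 14 * 5 ^ 14 := by
      rw [← mul_pow, ← mul_pow]; exact Nat.pow_le_pow_left h1 14
    have h3 : (5 : ℕ) ^ 14 ≤ 3 ^ 5 * 4 ^ 14 := by norm_num
    have h4 : (e + 1) ^ 14 ≤ e ^ 14 * 3 ^ 5 := by
      refine Nat.le_of_mul_le_mul_right (h2.trans ?_) (by norm_num : 0 < 4 ^ 14)
      calc e ^ 14 * 5 ^ 14 ≤ e ^ 14 * (3 ^ 5 * 4 ^ 14) := Nat.mul_le_mul_left _ h3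
        _ = _ := by ring
    have e2 : 5 * (e + 1) - 2 = 5 * e - 2 + 5 := by omega
    have e3 : 5 * (e + 1) - 3 = 5 * e - 3 + 5 := by omega
    rw [e2, e3, pow_add, pow_add]
    exact ⟨h4.trans (Nat.mul_le_mul_right _ ih.1), by
      calc 9 * (e + 1) ^ 14 ≤ 9 * (e ^ 14 * 3 ^ 5) := Nat.mul_le_mul_left _ h4
        _ = 9 * e ^ 14 * 3 ^ 5 := (mul_assoc _ _ _).symm
        _ ≤ 8 * 4 ^ (5 * e - 3) * 4 ^ 5 :=
          Nat.mul_le_mul ih.2 (Nat.pow_le_pow_left (by norm_num) 5)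
        _ = 8 * (4 ^ (5 * e - 3) * 4 ^ 5) := mul_assoc _ _ _⟩

/-- The numerical inequality of the primitive case. -/
theorem numeric {p d e n : ℕ} (hp : 2 ≤ p) (hd : 1 ≤ d) (he : 2 ≤ e) (hn : e ≤ n)
    (hq3 : 3 ≤ p ^ d) (hq2 : e = 2 → 5 ≤ p ^ d) (hq4 : e = 3 → 4 ≤ p ^ d) :
    d ^ 2 * (p ^ d - 1) ^ 2 * e ^ 14 ≤ (p ^ d) ^ (5 * n) := by
  refine le_trans ?_ (Nat.pow_le_pow_right (by omega) (Nat.mul_le_mul_left 5 hn))
  obtain rfl | hd2 := hd.eq_or_lt
  · have h1 : 1 ^ 2 * (p ^ 1 - 1) ^ 2 * e ^ 14 ≤ (p ^ 1) ^ 2 * e ^ 14 := by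
      rw [one_pow, one_mul]
      exact Nat.mul_le_mul_right _ (Nat.pow_le_pow_left (Nat.sub_le _ _) 2)
    refine h1.trans ?_
    obtain ⟨m, hm⟩ : ∃ m, 5 * e = 2 + m := ⟨5 * e - 2, by omega⟩
    rw [hm, pow_add]
    refine Nat.mul_le_mul_left _ ?_
    rcases Nat.lt_or_ge e 4 with h4 | h4
    · interval_cases e
      · have : m = 8 := by omega
        subst this
        exact le_trans (by norm_num) (Nat.pow_le_pow_left (hq2 rfl) 8)
      · have : m = 13 := by omega
        subst this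
        exact le_trans (by norm_num) (Nat.pow_le_pow_left (hq4 rfl) 13)
    · have : m = 5 * e - 2 := by omega
      rw [this]
      exact (pow14_le e h4).1.trans (Nat.pow_le_pow_left hq3 _)
  · have hq4' : 4 ≤ p ^ d := by
      calc 4 = 2 ^ 2 := by norm_num
        _ ≤ p ^ 2 := Nat.pow_le_pow_left hp 2
        _ ≤ p ^ d := Nat.pow_le_pow_right (by omega) hd2
    have h8 : 8 * d ^ 2 ≤ 9 * p ^ d :=
      (eight_sq_le d).trans (Nat.mul_le_mul_left 9 (Nat.pow_le_pow_left hp d))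
    have h9 : 9 * e ^ 14 ≤ 8 * (p ^ d) ^ (5 * e - 3) := by
      rcases Nat.lt_or_ge e 4 with h4 | h4
      · interval_cases e
        · exact le_trans (by norm_num) (Nat.mul_le_mul_left 8 (Nat.pow_le_pow_left (hq2 rfl) _))
        · exact le_trans (by norm_num) (Nat.mul_le_mul_left 8 (Nat.pow_le_pow_left hq4' _))
      · exact (pow14_le e h4).2.trans (Nat.mul_le_mul_left 8 (Nat.pow_le_pow_left hq4' _))
    obtain ⟨m, hm⟩ : ∃ m, 5 * e = 3 + m := ⟨5 * e - 3, by omega⟩
    rw [show 5 * e - 3 = m by omega] at h9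
    rw [hm, pow_add]
    refine Nat.le_of_mul_le_mul_left ?_ (by norm_num : 0 < 8)
    calc 8 * (d ^ 2 * (p ^ d - 1) ^ 2 * e ^ 14)
        = 8 * d ^ 2 * (p ^ d - 1) ^ 2 * e ^ 14 := by ring
      _ ≤ 9 * p ^ d * (p ^ d) ^ 2 * e ^ 14 :=
        Nat.mul_le_mul_right _ (Nat.mul_le_mul h8 (Nat.pow_le_pow_left (Nat.sub_le _ _) 2))
      _ = (p ^ d) ^ 3 * (9 * e ^ 14) := by ring
      _ ≤ (p ^ d) ^ 3 * (8 * (p ^ d) ^ m) := Nat.mul_le_mul_left _ h9
      _ = 8 * ((p ^ d) ^ 3 * (p ^ d) ^ m) := by ring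

/-- **The order bound.** -/
theorem ob_all : ∀ t, OB t := by
  intro t
  induction t using Nat.strong_induction_on with
  | _ t ih =>
  intro V _ _ hV ht H hsol hcr
  classical
  haveI := hV
  haveI := hsol
  have hsmall : ∀ (V' : Type) [AddCommGroup V'] [Finite V'], 2 ≤ Nat.card V' →
      Nat.card V' < Nat.card V → ∀ H' : Subgroup (AddMonoid.End V')ˣ, Group.IsSolvable H' →
      CR H' → 9 * Nat.card H' ^ 2 ≤ Nat.card V' ^ 5 := fun V' _ _ h2 hlt H' hs hc =>
    ih (Nat.card V') (lt_of_lt_of_le hlt ht) V' (Finite.one_lt_card_iff_nontrivial.mp h2) le_rfl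
      H' hs hc
  by_cases hirr : Irr H
  swap
  · obtain ⟨V₁, V₂, _, _, _, _, H₁, H₂, hs₁, hc₁, hs₂, hc₂, h1, h2, hVc, hH, -⟩ :=
      reducible_split hsol hcr hirr
    have b1 := hsmall V₁ h1 (by rw [hVc]; nlinarith) H₁ hs₁ hc₁
    have b2 := hsmall V₂ h2 (by rw [hVc]; nlinarith) H₂ hs₂ hc₂
    calc 9 * Nat.card H ^ 2 ≤ 9 * (Nat.card H₁ * Nat.card H₂) ^ 2 :=
          Nat.mul_le_mul_left _ (Nat.pow_le_pow_left hH 2)
      _ ≤ 9 * Nat.card H₁ ^ 2 * (9 * Nat.card H₂ ^ 2) := by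
          rw [mul_pow]; nlinarith [Nat.zero_le (Nat.card H₁ ^ 2 * Nat.card H₂ ^ 2)]
      _ ≤ Nat.card V₁ ^ 5 * Nat.card V₂ ^ 5 := Nat.mul_le_mul b1 b2
      _ = _ := by rw [hVc, mul_pow]
  by_cases hno : NoDecomp H
  swap
  · simp only [NoDecomp, not_forall, not_isEmpty_iff] at hno
    obtain ⟨m, hm, ⟨dec⟩⟩ := hno
    obtain ⟨c, W, _, _, K, T, hKs, hKc, hTs, hc2, hWc, hVc, hH, -⟩ :=
      imprimitive_split hsol hirr hm dec
    have hlt : c < Nat.card V := hVc ▸ lt_self_pow₀ hc2 hm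
    have hmV : m < Nat.card V := hVc ▸ (Nat.lt_two_pow_self).trans_le (Nat.pow_le_pow_left hc2 m)
    have hT : Nat.card T ≤ 3 ^ (m - 1) :=
      perm_card_le (ih m (lt_of_lt_of_le hmV ht)) m (Fin m) (Nat.card_fin m) (by omega) le_rfl T hTs
    have hK : ∀ i, 9 * Nat.card (K i) ^ 2 ≤ c ^ 5 := fun i => by
      have := hsmall (W i) (by rw [hWc]; exact hc2) (by rw [hWc]; exact hlt) (K i) (hKs i) (hKc i)
      rwa [hWc] at this
    calc 9 * Nat.card H ^ 2 ≤ 9 * ((∏ i, Nat.card (K i)) * Nat.card T) ^ 2 :=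
          Nat.mul_le_mul_left _ (Nat.pow_le_pow_left hH 2)
      _ ≤ 9 * ((∏ i, Nat.card (K i)) * 3 ^ (m - 1)) ^ 2 :=
          Nat.mul_le_mul_left _ (Nat.pow_le_pow_left (Nat.mul_le_mul_left _ hT) 2)
      _ = ∏ i, 9 * Nat.card (K i) ^ 2 := by
          rw [Finset.prod_mul_distrib, Finset.prod_const, Finset.card_univ, Fintype.card_fin,
            Finset.prod_pow]
          obtain ⟨j, rfl⟩ : ∃ j, m = j + 1 := ⟨m - 1, by omega⟩
          rw [Nat.add_sub_cancel, mul_pow, pow_succ 9 j, ← pow_mul, mul_comm j 2, pow_mul]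
          ring
      _ ≤ ∏ _i : Fin m, c ^ 5 := Finset.prod_le_prod' fun i _ => hK i
      _ = _ := by
          rw [Finset.prod_const, Finset.card_univ, Fintype.card_fin, hVc, ← pow_mul, ← pow_mul,
            mul_comm 5 m]
  obtain ⟨G, D, p, d, n, hHG, hp, hd, hn, hG, hVc, hU, hidx, hWn, -⟩ :=
    primitive_data hsol hirr hno
  haveI := hG
  haveI := D.cyclic
  obtain ⟨e, he⟩ := D.exists_sq
  have hen : e ≤ n := by
    rw [he] at hWn
    exact (Nat.pow_le_pow_iff_left two_ne_zero).mp hWn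
  have hHle : Nat.card H ≤ d * (p ^ d - 1) * e ^ 2 * Nat.card D.linRange := by
    calc Nat.card H ≤ Nat.card G := Subgroup.card_le_of_le hHG
      _ = Nat.card D.lin * D.lin.index := (Subgroup.card_mul_index _).symm
      _ ≤ Nat.card D.B * Nat.card D.linRange * d := Nat.mul_le_mul D.card_lin_le hidx
      _ = _ := by rw [D.card_B, hU, he]; ring
  rcases Nat.lt_or_ge e 2 with he2 | he2
  · -- `e = 1`
    have he1 : e ^ 2 = 1 := by
      have : 0 < e ^ 2 := he ▸ Nat.card_pos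
      interval_cases e <;> simp_all
    have hL : Nat.card D.linRange ≤ 1 := by
      refine (Subgroup.card_le_card_group _).trans ((card_mulAut_le _).trans ?_)
      rw [he, he1]
      exact le_rfl
    rw [he1, mul_one] at hHle
    have hH : Nat.card H ≤ d * (p ^ d - 1) :=
      hHle.trans (by simpa using Nat.mul_le_mul_left (d * (p ^ d - 1)) hL)
    refine le_trans (Nat.mul_le_mul_left _ (Nat.pow_le_pow_left hH 2)) ?_
    rw [hVc, ← pow_mul]
    refine le_trans ?_ (Nat.pow_le_pow_right (Nat.pow_pos hp.pos)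
      (show 5 ≤ n * 5 by omega))
    obtain rfl | hd2 := hd.eq_or_lt
    · rw [pow_one, one_mul]
      rcases Nat.lt_or_ge p 3 with hp3 | hp3
      · have : p = 2 := le_antisymm (by omega) hp.two_le
        subst this
        norm_num
      · calc 9 * (p - 1) ^ 2 ≤ p ^ 3 * p ^ 2 := by
              refine Nat.mul_le_mul ?_ (Nat.pow_le_pow_left (Nat.sub_le _ _) 2)
              exact le_trans (by norm_num) (Nat.pow_le_pow_left hp3 3)
          _ = p ^ 5 := by ring
    · have h1 : 9 * d ^ 2 ≤ (p ^ d) ^ 3 := by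
        have h8 : 8 * d ^ 2 ≤ 9 * p ^ d :=
          (eight_sq_le d).trans (Nat.mul_le_mul_left 9 (Nat.pow_le_pow_left hp.two_le d))
        have h4 : 4 ≤ p ^ d := le_trans (by norm_num : 4 ≤ 2 ^ 2)
          ((Nat.pow_le_pow_left hp.two_le 2).trans (Nat.pow_le_pow_right hp.pos hd2))
        have h16 : 16 * p ^ d ≤ (p ^ d) ^ 3 := by nlinarith [Nat.mul_le_mul h4 h4]
        omega
      calc 9 * (d * (p ^ d - 1)) ^ 2 = 9 * d ^ 2 * (p ^ d - 1) ^ 2 := by ring
        _ ≤ (p ^ d) ^ 3 * (p ^ d) ^ 2 :=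
            Nat.mul_le_mul h1 (Nat.pow_le_pow_left (Nat.sub_le _ _) 2)
        _ = (p ^ d) ^ 5 := by ring
  have hdiv : ∀ r, r.Prime → r ∣ e → r ∣ p ^ d - 1 := fun r hr hre =>
    hU ▸ D.prime_dvd_U hr (he ▸ dvd_pow hre two_ne_zero)
  have hpd : 2 ≤ p ^ d := le_trans hp.two_le (Nat.le_self_pow (by omega) p)
  have hq3 : 3 ≤ p ^ d := by
    obtain ⟨r, hr, hre⟩ := Nat.exists_prime_and_dvd (show e ≠ 1 by omega)
    have := Nat.le_of_dvd (by omega) (hdiv r hr hre)
    have := hr.two_le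
    omega
  have hWlt : Nat.card D.W < Nat.card V := by
    rw [he, hVc]
    calc e ^ 2 ≤ n ^ 2 := Nat.pow_le_pow_left hen 2
      _ < 3 ^ n := by
          clear hWn hVc hHle hidx he hen hn
          induction n with
          | zero => norm_num
          | succ m ihm =>
            rcases Nat.lt_or_ge m 2 with hm | hm
            · interval_cases m <;> norm_num
            · rw [pow_succ 3 m]; nlinarith
      _ ≤ (p ^ d) ^ n := Nat.pow_le_pow_left hq3 n
  by_cases hsp : e = 2 ∧ p ^ d = 3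
  · obtain ⟨rfl, hq⟩ := hsp
    have hd1 : d = 1 := by
      by_contra h
      have : (4 : ℕ) ≤ p ^ d := le_trans (by norm_num : 4 ≤ 2 ^ 2)
        ((Nat.pow_le_pow_left hp.two_le 2).trans (Nat.pow_le_pow_right hp.pos (by omega)))
      omega
    subst hd1
    have hL : Nat.card D.linRange ≤ 6 := by
      refine (Subgroup.card_le_card_group _).trans ((card_mulAut_le _).trans ?_)
      rw [he]
      decide
    rw [hq] at hHle hVc
    have hH : Nat.card H ≤ 48 := hHle.trans (by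
      calc 1 * (3 - 1) * 2 ^ 2 * Nat.card D.linRange ≤ 1 * (3 - 1) * 2 ^ 2 * 6 :=
            Nat.mul_le_mul_left _ hL
        _ = 48 := by norm_num)
    rw [hVc, ← pow_mul]
    exact le_trans (Nat.mul_le_mul_left _ (Nat.pow_le_pow_left hH 2))
      (le_trans (by norm_num : 9 * 48 ^ 2 ≤ 3 ^ 10) (Nat.pow_le_pow_right (by norm_num) (by omega)))
  have hlinsol : Group.IsSolvable D.linRange := solvable_range inferInstance _
  obtain ⟨V', _, _, φ, H', eH, -, -, hs', hc'⟩ := exists_transport D.linRange hlinsol D.linRange_crm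
  have hcard : Nat.card V' = e ^ 2 := (Nat.card_congr φ).symm.trans he
  have hL := hsmall V' (by rw [hcard]; nlinarith) (by rw [← Nat.card_congr φ]; exact hWlt) H' hs' hc'
  rw [hcard, ← Nat.card_congr eH.toEquiv] at hL
  rw [hVc, ← pow_mul]
  calc 9 * Nat.card H ^ 2
      ≤ 9 * (d * (p ^ d - 1) * e ^ 2 * Nat.card D.linRange) ^ 2 :=
        Nat.mul_le_mul_left _ (Nat.pow_le_pow_left hHle 2)
    _ = d ^ 2 * (p ^ d - 1) ^ 2 * e ^ 4 * (9 * Nat.card D.linRange ^ 2) := by ring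
    _ ≤ d ^ 2 * (p ^ d - 1) ^ 2 * e ^ 4 * (e ^ 2) ^ 5 := Nat.mul_le_mul_left _ hL
    _ = d ^ 2 * (p ^ d - 1) ^ 2 * e ^ 14 := by ring
    _ ≤ (p ^ d) ^ (5 * n) := numeric hp.two_le hd he2 hen hq3
        (fun h => by
          subst h
          have h2 := hdiv 2 Nat.prime_two dvd_rfl
          rcases Nat.lt_or_ge (p ^ d) 5 with hlt | hge
          · interval_cases hq : p ^ d
            · exact absurd ⟨rfl, rfl⟩ hsp
            · norm_num at h2
          · exact hge)
        (fun h => by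
          subst h
          have h3 := Nat.le_of_dvd (by omega) (hdiv 3 Nat.prime_three dvd_rfl)
          omega)
    _ = (p ^ d) ^ (n * 5) := by rw [mul_comm 5 n]

/-- The bound for a single group. -/
theorem order_bound {V : Type} [AddCommGroup V] [Finite V] [Nontrivial V]
    {H : Subgroup (AddMonoid.End V)ˣ} (hsol : Group.IsSolvable H) (hcr : CR H) :
    9 * Nat.card H ^ 2 ≤ Nat.card V ^ 5 :=
  ob_all _ V inferInstance le_rfl H hsol hcr

/-- Soluble permutation groups. -/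
theorem solvable_perm_card_le {α : Type*} [Finite α] [Nonempty α] (S : Subgroup (Equiv.Perm α))
    (hS : Group.IsSolvable S) : Nat.card S ≤ 3 ^ (Nat.card α - 1) := by
  obtain ⟨n, ⟨e⟩⟩ := Finite.exists_equiv_fin α
  let E : Equiv.Perm α ≃* Equiv.Perm (Fin n) := e.permCongrHom
  have hn : Nat.card α = n := by rw [Nat.card_congr e, Nat.card_fin]
  rw [Nat.card_congr (S.equivMapOfInjective E.toMonoidHom E.injective).toEquiv, hn]
  haveI := hS
  exact perm_card_le (ob_all n) n (Fin n) (Nat.card_fin n) (hn ▸ Nat.card_pos) le_rfl _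
    (Group.isSolvable_of_surjective
      (f := (S.equivMapOfInjective E.toMonoidHom E.injective).toMonoidHom)
      (S.equivMapOfInjective E.toMonoidHom E.injective).surjective)

end Cfsg.Agent.SolvBound
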