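import Cfsg.Agent.SolvBound.Split

/-!
# Numerical data of a semilinear group containing the scalars
-/

set_option autoImplicit false
set_option linter.style.haveILetI false
set_option linter.unusedSectionVars false

open scoped commutatorElement

namespace Cfsg.Agent.SolvBound

open BaseSize

/-- Eigenvectors with separated eigen-characters are linearly independent. -/
theorem indep_of_separated {k M ι J : Type*} [Field k] [AddCommGroup M] [Module k M] (x : ι → M)
    (hx : ∀ i, x i ≠ 0) (T : J → M →ₗ[k] M) (χ : J → ι → k)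
    (hT : ∀ j i, T j (x i) = χ j i • x i) (hsep : ∀ i i', i ≠ i' → ∃ j, χ j i ≠ χ j i') :
    LinearIndependent k x := by
  classical
  rw [linearIndependent_iff']
  intro s
  induction s using Finset.strongInductionOn with
  | _ s ih =>
    intro c hc i hi
    by_contra hci
    have hne : ∃ i' ∈ s, i' ≠ i ∧ c i' ≠ 0 := by
      by_contra h
      push Not at h
      rw [Finset.sum_eq_single_of_mem i hi (fun b hb hbi => by rw [h b hb hbi, zero_smul]),
        smul_eq_zero] at hc
      exact hc.elim hci (hx i)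
    obtain ⟨i', hi', hne', hci'⟩ := hne
    obtain ⟨j, hj⟩ := hsep i' i hne'
    have h2 : ∑ b ∈ s.erase i, (c b * (χ j b - χ j i)) • x b = 0 := by
      have h1 : ∑ b ∈ s, (c b * (χ j b - χ j i)) • x b = 0 := by
        have := congrArg (T j) hc
        rw [map_sum, map_zero] at this
        simp only [map_smul, hT, smul_smul] at this
        simp only [mul_sub, sub_smul, Finset.sum_sub_distrib, this, zero_sub, neg_eq_zero]
        rw [show ∑ b ∈ s, (c b * χ j i) • x b = χ j i • ∑ b ∈ s, c b • x b by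
          rw [Finset.smul_sum]; exact Finset.sum_congr rfl fun b _ => by rw [smul_smul, mul_comm],
          hc, smul_zero]
      rw [← Finset.add_sum_erase s _ hi] at h1
      simpa using h1
    have := ih _ (Finset.erase_ssubset hi) _ h2 i' (Finset.mem_erase.mpr ⟨hne', hi'⟩)
    exact (mul_ne_zero hci' (sub_ne_zero.mpr hj)) this

namespace BD

variable {G : Type*} [Group G] (D : BD G)

/-- **The representation bound.** If `B` is linear and `U` consists of scalars, then `|W| ≤ n²`. -/
theorem card_W_le [Finite G] {k V : Type*} [Field k] [AddCommGroup V] [Module k V]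
    [FiniteDimensional k V] (ρ : G → Module.End k V)
    (hmul : ∀ x ∈ D.B, ∀ y ∈ D.B, ρ (x * y) = ρ x * ρ y) (hne : ∀ x ∈ D.B, ρ x ≠ 0)
    (hU : ∀ u : D.U, ∃ c : k, ρ (u : G) = c • 1) (hinj : ∀ u ∈ D.U, ρ u = 1 → u = 1) :
    Nat.card D.W ≤ Module.finrank k V ^ 2 := by
  classical
  haveI : Fintype D.W := Fintype.ofFinite _
  choose r hr using fun w : D.W => QuotientGroup.mk_surjective w
  choose sc hsc using hU
  have hone : ρ 1 = 1 := by
    obtain ⟨c, hc⟩ : ∃ c : k, ρ 1 = c • 1 := ⟨sc 1, hsc 1⟩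
    have h := hmul 1 D.B.one_mem 1 D.B.one_mem
    rw [mul_one, hc, smul_mul_assoc, one_mul, smul_smul] at h
    have hc0 : c ≠ 0 := fun h0 => hne 1 D.B.one_mem (by rw [hc, h0, zero_smul])
    haveI : Nontrivial V := by
      by_contra hV
      rw [not_nontrivial_iff_subsingleton] at hV
      exact hne 1 D.B.one_mem (LinearMap.ext fun v => Subsingleton.elim _ _)
    have := smul_left_injective k (one_ne_zero : (1 : Module.End k V) ≠ 0) h
    rw [hc, (mul_eq_left₀ hc0).mp this.symm, one_smul]
  let x : D.W → Module.End k V := fun w => ρ (r w : G)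
  let T : D.B → Module.End k V →ₗ[k] Module.End k V := fun b =>
    (LinearMap.mulLeft k (ρ b)).comp (LinearMap.mulRight k (ρ ((b : G)⁻¹)))
  have hT : ∀ (b : D.B) w, T b (x w) = sc (D.com b (r w)) • x w := by
    intro b w
    show ρ b * (ρ (r w) * ρ ((b : G)⁻¹)) = _
    rw [← hmul _ (r w).2 _ (inv_mem b.2), ← hmul _ b.2 _ (mul_mem (r w).2 (inv_mem b.2)),
      show (b : G) * ((r w : G) * (b : G)⁻¹) = (D.com b (r w) : G) * (r w : G) by
        show _ = ⁅(b : G), (r w : G)⁆ * _
        rw [commutatorElement_def]; group,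
      hmul _ (D.U_le_B (D.com b (r w)).2) _ (r w).2, hsc, smul_mul_assoc, one_mul]
  have hsep : ∀ w w', w ≠ w' → ∃ b : D.B, sc (D.com b (r w)) ≠ sc (D.com b (r w')) := by
    intro w w' hne'
    by_contra hc
    push Not at hc
    refine hne' (inv_mul_eq_one.mp (D.pairing.nondeg _ fun v => ?_))
    obtain ⟨b, rfl⟩ := QuotientGroup.mk_surjective v
    rw [D.pairing.swap, inv_eq_one, ← hr w, ← hr w', ← QuotientGroup.mk_inv, ← QuotientGroup.mk_mul,
      pairing_mk, D.com_mul_right]
    have hinv : D.com b (r w)⁻¹ = (D.com b (r w))⁻¹ := by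
      rw [eq_inv_iff_mul_eq_one, ← D.com_mul_right, inv_mul_cancel]
      exact D.com_of_mem_right (one_mem _) b
    have heq : D.com b (r w) = D.com b (r w') := by
      have h1 : ρ (D.com b (r w) : G) = ρ (D.com b (r w') : G) := by rw [hsc, hsc, hc]
      have h2 := hinj ((D.com b (r w) : G)⁻¹ * (D.com b (r w') : G))
        (mul_mem (inv_mem (D.com b (r w)).2) (D.com b (r w')).2) (by
          rw [hmul _ (inv_mem (D.U_le_B (D.com b (r w)).2)) _ (D.U_le_B (D.com b (r w')).2), ← h1,
            ← hmul _ (inv_mem (D.U_le_B (D.com b (r w)).2)) _ (D.U_le_B (D.com b (r w)).2),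
            inv_mul_cancel, hone])
      exact Subtype.ext (inv_mul_eq_one.mp h2)
    rw [hinv, ← heq, inv_mul_cancel]
  have hli := indep_of_separated x (fun w => hne _ (r w).2) T (fun b w => sc (D.com b (r w))) hT hsep
  have := hli.fintype_card_le_finrank
  rw [Module.finrank_linearMap, ← Nat.card_eq_fintype_card] at this
  rwa [sq]

/-- A prime dividing the order of `W` divides the order of `U`. -/
theorem prime_dvd_U [Finite G] {r : ℕ} (hr : r.Prime) (hd : r ∣ Nat.card D.W) :
    r ∣ Nat.card D.U := by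
  haveI := Fact.mk hr
  obtain ⟨x, hx⟩ := exists_prime_orderOf_dvd_card' r hd
  have hx1 : x ≠ 1 := fun h => by rw [h, orderOf_one] at hx; exact hr.one_lt.ne hx
  obtain ⟨y, hy⟩ : ∃ y, D.pairing.ω x y ≠ 1 := by
    by_contra hc
    push Not at hc
    exact hx1 (D.pairing.nondeg x hc)
  have : D.pairing.ω x y ^ r = 1 := by
    rw [← MonoidHom.pow_apply, ← map_pow, ← hx, pow_orderOf_eq_one, map_one, MonoidHom.one_apply]
  exact (orderOf_eq_prime this hy) ▸ orderOf_dvd_natCard _

/-- The order of `lin`. -/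
theorem card_lin_le [Finite G] : Nat.card D.lin ≤ Nat.card D.B * Nat.card D.linRange := by
  rw [card_eq_ker_mul_range (D.act.comp D.lin.subtype)]
  exact Nat.mul_le_mul_right _ ((Subgroup.card_le_of_le D.ker_le).trans_eq
    (Nat.card_congr (Subgroup.subgroupOfEquivOfLe D.B_le_lin).toEquiv))

end BD

/-- The number of automorphisms of a finite field of order `p ^ d`. -/
theorem card_ringAut_le {k : Type*} [Field k] [Finite k] :
    ∃ p d : ℕ, p.Prime ∧ 1 ≤ d ∧ Nat.card k = p ^ d ∧ Nat.card (k ≃+* k) ≤ d := by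
  classical
  obtain ⟨p, _⟩ := CharP.exists k
  haveI hp : Fact p.Prime := ⟨CharP.char_is_prime k p⟩
  letI := ZMod.algebra k p
  haveI : Fintype k := Fintype.ofFinite k
  refine ⟨p, Module.finrank (ZMod p) k, hp.out, Module.finrank_pos, ?_, ?_⟩
  · rw [Module.natCard_eq_pow_finrank (K := ZMod p), Nat.card_zmod]
  · refine le_trans ?_ (AlgEquiv.card_le (F := ZMod p) (K := k))
    rw [← Nat.card_eq_fintype_card]
    refine Nat.card_le_card_of_injective
      (fun e => (AlgEquiv.ofRingEquiv (f := e) fun c => ?_ : k ≃ₐ[ZMod p] k)) fun e e' h => ?_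
    · obtain ⟨m, rfl⟩ := ZMod.natCast_zmod_surjective c
      rw [map_natCast, map_natCast]
    · exact RingEquiv.ext fun x => DFunLike.congr_fun h x

section
variable {V : Type} [AddCommGroup V] [Finite V]

/-- The numerical data of a primitive soluble group. -/
theorem primitive_data {H : Subgroup (AddMonoid.End V)ˣ} [Nontrivial V] (hsol : Group.IsSolvable H)
    (hirr : Irr H) (hno : NoDecomp H) :
    ∃ (G : Subgroup (AddMonoid.End V)ˣ) (D : BD G) (p d n : ℕ),
      H ≤ G ∧ p.Prime ∧ 1 ≤ d ∧ 1 ≤ n ∧ Group.IsSolvable G ∧ Nat.card V = (p ^ d) ^ n ∧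
      Nat.card D.U = p ^ d - 1 ∧ D.lin.index ≤ d ∧ Nat.card D.W ≤ n ^ 2 ∧
      (∀ g : G, g ∉ D.lin → ∃ f : ℕ, 2 ≤ f ∧ (∃ j, f ^ j = p ^ d) ∧ f < p ^ d ∧
        Nat.card (D.U ⊓ Subgroup.centralizer ({g} : Set G) : Subgroup G) ≤ f - 1) ∧
      (∀ u ∈ D.U, ∀ v : V, v ≠ 0 → u • v = v → u = 1) := by
  classical
  haveI : Nonempty {K : Subgroup (AddMonoid.End V)ˣ // H ≤ K ∧ Group.IsSolvable K} :=
    ⟨⟨H, le_rfl, hsol⟩⟩
  obtain ⟨⟨K, hHK, hK⟩, hmax⟩ := Finite.exists_max
    (fun K : {K : Subgroup (AddMonoid.End V)ˣ // H ≤ K ∧ Group.IsSolvable K} => Nat.card K.1)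
  obtain ⟨k, _, _, _, ⟨S⟩⟩ := exists_semi hK (irr_mono hHK hirr) (noDecomp_mono hHK hno)
    fun K' hle hK' => (Subgroup.eq_of_le_of_card_ge hle (hmax ⟨K', hHK.trans hle, hK'⟩)).ge
  haveI : Finite kˣ := inferInstance
  let sys : Sys K :=
    { lin := S.lin
      U := S.U
      lin_normal := MonoidHom.normal_ker _
      U_normal := S.U_normal
      U_le := by rintro _ ⟨c, rfl⟩; exact S.mem_lin.mpr (S.σ_sc c)
      central := by rintro g hg _ ⟨c, rfl⟩; exact S.sc_comm (S.mem_lin.mp hg) c
      max_abelian := fun N hN hab hU x hx => S.max_abelian N hN hab (fun c => hU ⟨c, rfl⟩) x hx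
      cyclic := isCyclic_of_surjective S.sc.rangeRestrict S.sc.rangeRestrict_surjective }
  obtain ⟨D, hD⟩ := sys.exists_BD hK
  have hlin : D.lin = S.lin := congrArg Sys.lin hD
  have hDU : D.U = S.U := congrArg Sys.U hD
  obtain ⟨p, d, hp, hd, hq, haut⟩ := card_ringAut_le (k := k)
  haveI : Finite (k ≃+* k) := Finite.of_injective _ DFunLike.coe_injective
  haveI : Module.Finite k V := Module.Finite.of_finite
  have hV : Nat.card V = (p ^ d) ^ Module.finrank k V := by
    rw [Module.natCard_eq_pow_finrank (K := k), hq]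
  refine ⟨K, D, p, d, Module.finrank k V, hHK, hp, hd, Module.finrank_pos, hK, hV, ?_, ?_, ?_, ?_, ?_⟩
  · rw [hDU, Semi.U, ← Nat.card_congr (MonoidHom.ofInjective S.sc_injective).toEquiv,
      Nat.card_units, hq]
  · rw [hlin, Semi.lin, Subgroup.index_ker]
    exact (Subgroup.card_le_card_group _).trans haut
  · let ρ : K → Module.End k V := fun g =>
      if h : S.σ g = 1 then
        { toFun := fun v => g • v
          map_add' := smul_add g
          map_smul' := fun c v => by
            rw [S.smul_smul', h]; rfl }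
      else 0
    have hρ : ∀ g ∈ D.B, ∀ v, ρ g v = g • v := fun g hg v => by
      have h : S.σ g = 1 := S.mem_lin.mp (hlin ▸ D.B_le_lin hg)
      simp only [ρ, dif_pos h]
      rfl
    refine D.card_W_le ρ (fun x hx y hy => LinearMap.ext fun v => ?_) (fun x hx h => ?_)
      (fun u => ?_) (fun u hu h => ?_)
    · rw [Module.End.mul_apply, hρ _ hy, hρ _ hx, hρ _ (mul_mem hx hy), mul_smul]
    · obtain ⟨v, hv⟩ := exists_ne (0 : V)
      have := LinearMap.congr_fun h v
      rw [hρ x hx, LinearMap.zero_apply] at this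
      exact hv ((smul_eq_zero_iff_eq x).mp this)
    · obtain ⟨c, hc⟩ : (u : K) ∈ S.U := hDU ▸ u.2
      refine ⟨(c : k), LinearMap.ext fun v => ?_⟩
      rw [hρ _ (D.U_le_B u.2), ← hc, S.sc_smul]
      rfl
    · refine S.faithful u fun v => ?_
      rw [← hρ u (D.U_le_B hu), h]
      rfl
  · intro g hg
    have hσ : S.σ g ≠ 1 := fun h => hg (hlin ▸ S.mem_lin.mpr h)
    let F : Subfield k :=
      { carrier := {x | S.σ g x = x}
        mul_mem' := fun {a b} (ha : S.σ g a = a) (hb : S.σ g b = b) => by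
          show S.σ g (a * b) = a * b
          rw [map_mul, ha, hb]
        one_mem' := map_one (S.σ g)
        add_mem' := fun {a b} (ha : S.σ g a = a) (hb : S.σ g b = b) => by
          show S.σ g (a + b) = a + b
          rw [map_add, ha, hb]
        zero_mem' := map_zero (S.σ g)
        neg_mem' := fun {a} (ha : S.σ g a = a) => by
          show S.σ g (-a) = -a
          rw [map_neg, ha]
        inv_mem' := fun a (ha : S.σ g a = a) => by
          show S.σ g a⁻¹ = a⁻¹
          rw [map_inv₀, ha] }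
    haveI : Finite F := Finite.of_injective _ Subtype.val_injective
    refine ⟨Nat.card F, Finite.one_lt_card, ⟨Module.finrank F k, ?_⟩, ?_, ?_⟩
    · rw [← hq, Module.natCard_eq_pow_finrank (K := F) (V := k)]
    · rw [← hq]
      refine (Finite.card_subtype_lt (p := fun x => x ∈ F) (x := (?_ : k)) ?_)
      · exact (not_forall.mp fun h => hσ (RingEquiv.ext h)).choose
      · exact (not_forall.mp fun h => hσ (RingEquiv.ext h)).choose_spec
    · have hu : ∀ u : (D.U ⊓ Subgroup.centralizer ({g} : Set K) : Subgroup K),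
          ∃ c : kˣ, S.sc c = u ∧ (c : k) ∈ F := fun u => by
        obtain ⟨c, hc⟩ : (u : K) ∈ S.U := hDU ▸ u.2.1
        refine ⟨c, hc, ?_⟩
        have h := Subgroup.mem_centralizer_singleton_iff.mp u.2.2
        rw [← hc] at h
        have h' := (S.mul_sc g c).symm.trans h.symm
        exact congrArg Units.val (S.sc_injective (mul_right_cancel h'))
      choose c hc hcF using hu
      rw [← Nat.card_units]
      refine Nat.card_le_card_of_injective (fun u => Units.mk0 (⟨(c u : k), hcF u⟩ : F)
        fun h => (c u).ne_zero (congrArg Subtype.val h)) fun u u' h => ?_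
      have := congrArg (fun w : Fˣ => ((w : F) : k)) h
      exact Subtype.ext (by rw [← hc u, ← hc u', Units.ext this])
  · intro u hu v hv h
    obtain ⟨c, rfl⟩ : u ∈ S.U := hDU ▸ hu
    rw [S.sc_smul] at h
    have h1 : ((c : k) - 1) • v = 0 := by rw [sub_smul, one_smul, h, sub_self]
    have hc : c = 1 := Units.ext (sub_eq_zero.mp ((smul_eq_zero.mp h1).resolve_right hv))
    rw [hc, map_one]

end

end Cfsg.Agent.SolvBound
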