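import Cfsg.Agent.BaseSize.Main

/-!
# The semilinear structure of a maximal soluble primitive linear group
-/

set_option autoImplicit false
set_option linter.style.haveILetI false
set_option linter.unusedSectionVars false

open Finset

namespace Cfsg.Agent.SolvBound

open BaseSize

variable {V : Type} [AddCommGroup V] [Finite V]

/-- A maximal solvable group with no system of imprimitivity is semilinear over the field it spans. -/
theorem exists_semi {G : Subgroup (AddMonoid.End V)ˣ} [Nontrivial V] (hsol : Group.IsSolvable G)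
    (hirr : Irr G) (hno : NoDecomp G)
    (hmax : ∀ H : Subgroup (AddMonoid.End V)ˣ, G ≤ H → Group.IsSolvable H → H ≤ G) :
    ∃ (k : Type) (_ : Field k) (_ : Finite k) (_ : Module k V), Nonempty (Semi k V G) := by
  classical
  haveI : Finite (AddMonoid.End V) := Finite.of_injective _ DFunLike.coe_injective
  -- a maximal abelian normal subgroup
  obtain ⟨N, ⟨hNn, hNab⟩, hNmax⟩ : ∃ N : Subgroup G,
      (N.Normal ∧ ∀ x ∈ N, ∀ y ∈ N, x * y = y * x) ∧
      ∀ M : Subgroup G, (M.Normal ∧ ∀ x ∈ M, ∀ y ∈ M, x * y = y * x) → N ≤ M → M ≤ N := by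
    haveI : Nonempty {M : Subgroup G // M.Normal ∧ ∀ x ∈ M, ∀ y ∈ M, x * y = y * x} :=
      ⟨⟨⊥, inferInstance, fun x hx y hy => by
        rw [Subgroup.mem_bot] at hx hy; rw [hx, hy]⟩⟩
    obtain ⟨N, hN⟩ := Finite.exists_max
      (fun M : {M : Subgroup G // M.Normal ∧ ∀ x ∈ M, ∀ y ∈ M, x * y = y * x} => Nat.card M.1)
    exact ⟨N.1, N.2, fun M hM hle => (Subgroup.eq_of_le_of_card_ge hle (hN ⟨M, hM⟩)).ge⟩
  -- the field
  let gen : Set (AddMonoid.End V) :=
    Set.range fun x : N => (((x : G) : (AddMonoid.End V)ˣ) : AddMonoid.End V)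
  let R : Subring (AddMonoid.End V) := Subring.closure gen
  have hgen : ∀ x ∈ gen, ∀ y ∈ gen, x * y = y * x := by
    rintro _ ⟨x, rfl⟩ _ ⟨y, rfl⟩
    exact congrArg (fun z : G => ((z : (AddMonoid.End V)ˣ) : AddMonoid.End V)) (hNab x x.2 y y.2)
  have hcomm : ∀ a ∈ R, ∀ b ∈ R, a * b = b * a := by
    have h1 : ∀ a ∈ gen, ∀ b ∈ R, a * b = b * a := fun a ha b hb =>
      ((Subring.closure_le (t := Subring.centralizer {a})).mpr (fun c hc => by
        rw [SetLike.mem_coe, Subring.mem_centralizer_iff]
        rintro d rfl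
        exact hgen d ha c hc) hb) a rfl
    exact fun a ha b hb => ((Subring.closure_le (t := Subring.centralizer {b})).mpr (fun c hc => by
        rw [SetLike.mem_coe, Subring.mem_centralizer_iff]
        rintro d rfl
        exact (h1 c hc d hb).symm) ha b rfl).symm
  -- invariance
  let cj : G → (AddMonoid.End V →+* AddMonoid.End V) := fun g =>
    { toFun := fun a => ((g : (AddMonoid.End V)ˣ) : AddMonoid.End V) * a *
        ((g : (AddMonoid.End V)ˣ)⁻¹ : (AddMonoid.End V)ˣ)
      map_one' := by rw [mul_one, Units.mul_inv]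
      map_mul' := fun a b => by simp only [mul_assoc, Units.inv_mul_cancel_left]
      map_zero' := by rw [mul_zero, zero_mul]
      map_add' := fun a b => by rw [mul_add, add_mul] }
  have hinv : ∀ g : G, ∀ a ∈ R, cj g a ∈ R := fun g a ha =>
    ((Subring.closure_le (t := R.comap (cj g))).mpr (by
      rintro _ ⟨x, rfl⟩
      exact Subring.subset_closure ⟨⟨g * (x : G) * g⁻¹, hNn.conj_mem x x.2 g⟩, rfl⟩) ha :)
  have hcj : ∀ (g : G) (a : AddMonoid.End V) (v : V), g • a v = cj g a (g • v) := fun g a v => by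
    show _ = ((g : (AddMonoid.End V)ˣ) : AddMonoid.End V)
      (a ((g⁻¹ : G) • (g • v)))
    rw [inv_smul_smul]
    rfl
  have hcj1 : ∀ (g : G) a, ((g : (AddMonoid.End V)ˣ) : AddMonoid.End V) * a =
      cj g a * ((g : (AddMonoid.End V)ˣ) : AddMonoid.End V) := fun g a =>
    (Units.inv_mul_cancel_right _ _).symm
  -- no nilpotent elements
  have hred : ∀ a ∈ R, IsNilpotent a → a = 0 := by
    let M : AddSubgroup V :=
      { carrier := {v | ∀ a ∈ R, IsNilpotent a → a v = 0}
        zero_mem' := fun a _ _ => map_zero a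
        add_mem' := fun {x y} hx hy a ha hn => by rw [map_add, hx a ha hn, hy a ha hn, add_zero]
        neg_mem' := fun {x} hx a ha hn => by rw [map_neg, hx a ha hn, neg_zero] }
    rcases hirr M (by
      intro g hg v hv a ha hn
      have h1 := hcj ⟨g, hg⟩⁻¹ a (g • v)
      rw [show (⟨g, hg⟩⁻¹ : G) • g • v = v from inv_smul_smul (⟨g, hg⟩ : G) v] at h1
      rw [hv _ (hinv _ a ha) (hn.map (cj _))] at h1
      rwa [inv_smul_eq_iff, smul_zero] at h1) with h | h
    · exfalso
      haveI : Nonempty {v : V // v ≠ 0} := ⟨⟨_, (exists_ne (0 : V)).choose_spec⟩⟩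
      obtain ⟨⟨v, hv0⟩, hmin⟩ :=
        Finite.exists_min (fun v : {v : V // v ≠ 0} => Nat.card (Set.range fun a : R => a.1 v.1))
      refine hv0 ((AddSubgroup.eq_bot_iff_forall M).mp h v fun b hb hn => ?_)
      by_contra hbv
      have hsub : Set.range (fun a : R => a.1 (b v)) ⊆ Set.range (fun a : R => a.1 v) := by
        rintro _ ⟨a, rfl⟩
        exact ⟨a * ⟨b, hb⟩, rfl⟩
      have he := Set.eq_of_subset_of_ncard_le hsub (by
        rw [← Nat.card_coe_set_eq, ← Nat.card_coe_set_eq]
        exact hmin ⟨b v, hbv⟩) (Set.toFinite _)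
      obtain ⟨⟨c, hc⟩, hcv⟩ : v ∈ Set.range (fun a : R => a.1 (b v)) := by
        rw [he]; exact ⟨1, rfl⟩
      obtain ⟨u, hu⟩ : IsUnit (1 - c * b) :=
        ((show Commute c b from hcomm c hc b hb).isNilpotent_mul_left hn).isUnit_one_sub
      have h0 : (u : AddMonoid.End V) v = 0 := by
        rw [hu]
        show v - c (b v) = 0
        rw [show c (b v) = v from hcv, sub_self]
      apply hv0
      have := congrArg (fun x : V => ((u⁻¹ : (AddMonoid.End V)ˣ) : AddMonoid.End V) x) h0
      simp only [map_zero] at this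
      rw [← this]
      exact (DFunLike.congr_fun u.inv_mul v).symm
    · exact fun a ha hn => DFunLike.ext _ _ fun v =>
        (h ▸ AddSubgroup.mem_top v : v ∈ M) a ha hn
  -- no idempotents
  have hidem : ∀ e ∈ R, e * e = e → e = 0 ∨ e = 1 := by
    intro e he hee
    by_contra hcon
    simp only [not_or] at hcon
    let P : AddMonoid.End V → Prop := fun f => f ∈ R ∧ f * f = f ∧ f ≠ 0 ∧
      ∀ x ∈ R, x * x = x → x ≠ 0 → f * x = x → x = f
    let ι := {f : Fin (Nat.card (AddMonoid.End V)) // P ((Finite.equivFin _).symm f)}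
    let p : ι → AddMonoid.End V := fun f => (Finite.equivFin _).symm f.1
    have hp : ∀ f, P (p f) := fun f => f.2
    have hsurj : ∀ f, P f → ∃ i, p i = f := fun f hf =>
      ⟨⟨Finite.equivFin _ f, by simpa using hf⟩, by simp [p]⟩
    have horth : ∀ i j : ι, i ≠ j → p i * p j = 0 := by
      intro i j hij
      by_contra hne
      obtain ⟨hi, hii, -, himin⟩ := hp i
      obtain ⟨hj, hjj, -, hjmin⟩ := hp j
      have hc : p i * p j = p j * p i := hcomm _ hi _ hj
      have hid : p i * p j * (p i * p j) = p i * p j := by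
        calc p i * p j * (p i * p j) = p i * (p j * p i) * p j := by simp only [mul_assoc]
          _ = p i * p i * (p j * p j) := by rw [← hc]; simp only [mul_assoc]
          _ = p i * p j := by rw [hii, hjj]
      have e1 := himin _ (R.mul_mem hi hj) hid hne (by rw [← mul_assoc, hii])
      have e2 := hjmin _ (R.mul_mem hi hj) hid hne (by
        rw [← mul_assoc, ← hc, mul_assoc, hjj])
      refine hij (Subtype.ext ?_)
      exact (Finite.equivFin (AddMonoid.End V)).symm.injective (e1.symm.trans e2)
    have hid : ∀ i, p i * p i = p i := fun i => (hp i).2.1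
    haveI : Nonempty ι := by
      haveI : Nonempty {f : AddMonoid.End V // f ∈ R ∧ f * f = f ∧ f ≠ 0} :=
        ⟨⟨e, he, hee, hcon.1⟩⟩
      obtain ⟨⟨f, hf, hff, hf0⟩, hfmin⟩ :=
        Finite.exists_min (fun f : {f : AddMonoid.End V // f ∈ R ∧ f * f = f ∧ f ≠ 0} =>
          Nat.card (Set.range f.1))
      refine ⟨(hsurj f ⟨hf, hff, hf0, fun x hx hxx hx0 hfx => ?_⟩).choose⟩
      have hsub : Set.range x ⊆ Set.range f := by
        rintro _ ⟨v, rfl⟩
        exact ⟨x v, DFunLike.congr_fun hfx v⟩
      have heq := Set.eq_of_subset_of_ncard_le hsub (by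
        rw [← Nat.card_coe_set_eq, ← Nat.card_coe_set_eq]
        exact hfmin ⟨x, hx, hxx, hx0⟩) (Set.toFinite _)
      refine DFunLike.ext _ _ fun v => ?_
      obtain ⟨w, hw⟩ : f v ∈ Set.range x := heq ▸ ⟨v, rfl⟩
      have h1 : x (f v) = f v := by rw [← hw]; exact DFunLike.congr_fun hxx w
      rw [← h1]
      show x v = (x * f) v
      rw [hcomm x hx f hf, hfx]
    haveI : Fintype ι := Fintype.ofFinite ι
    have hact : ∀ (g : G) (i : ι), ∃ j, ((g : (AddMonoid.End V)ˣ) : AddMonoid.End V) * p i =
        p j * ((g : (AddMonoid.End V)ˣ) : AddMonoid.End V) := by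
      intro g i
      obtain ⟨h1, h2, h3, h4⟩ := hp i
      have hback : ∀ a, cj g⁻¹ (cj g a) = a := fun a => by
        simp [cj, mul_assoc]
      obtain ⟨j, hj⟩ := hsurj (cj g (p i)) ⟨hinv g _ h1, by rw [← map_mul, h2],
        fun h => h3 (by rw [← hback (p i), h, map_zero]), fun x hx hxx hx0 hfx => by
          have := h4 (cj g⁻¹ x) (hinv _ x hx) (by rw [← map_mul, hxx]) (fun h => hx0 (by
            have h' : cj g (cj g⁻¹ x) = x := by simp [cj, mul_assoc]
            rw [← h', h, map_zero])) (by rw [← hback (p i), ← map_mul, hfx])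
          rw [← this]
          simp [cj, mul_assoc]⟩
      exact ⟨j, by rw [hj, hcj1]⟩
    let s := ∑ i, p i
    have hps : ∀ i, p i * s = p i := fun i => by
      rw [Finset.mul_sum, Finset.sum_eq_single i (fun j _ hj => horth i j (Ne.symm hj))
        (fun h => absurd (Finset.mem_univ i) h), hid]
    have hs1 : s = 1 := by
      refine idem_eq_one hirr ?_ (fun h => ?_) (fun g hg => ?_)
      · rw [Finset.sum_mul]; exact Finset.sum_congr rfl fun i _ => hps i
      · obtain ⟨i⟩ := (inferInstance : Nonempty ι)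
        exact (hp i).2.2.1 (by rw [← hps i, h, mul_zero])
      · choose j hj using hact ⟨g, hg⟩
        have hjinj : Function.Injective j := fun a b e => by
          have h := (hj a).trans ((congrArg (fun l => p l * (g : AddMonoid.End V)) e).trans
            (hj b).symm)
          exact Subtype.ext ((Finite.equivFin (AddMonoid.End V)).symm.injective
            ((Units.mul_right_inj g).mp h))
        rw [Finset.mul_sum, Finset.sum_mul]
        exact Fintype.sum_bijective j hjinj.bijective_of_finite _ _ hj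
    have h2 : 2 ≤ Fintype.card ι := by
      by_contra hlt
      have : Subsingleton ι := Fintype.card_le_one_iff_subsingleton.mp (by omega)
      obtain ⟨i⟩ := (inferInstance : Nonempty ι)
      have hone : p i = 1 := by
        rw [← hs1]
        exact (Finset.sum_eq_single i (fun j _ hj => absurd (Subsingleton.elim j i) hj)
          (fun h => absurd (Finset.mem_univ i) h)).symm
      exact hcon.2 (((hp i).2.2.2 e he hee hcon.1 (by rw [hone, one_mul])).trans hone)
    exact (hno _ h2).false ((⟨p, hs1, horth, fun i => (hp i).2.2.1,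
      fun g hg i => hact ⟨g, hg⟩ i⟩ : Decomp G ι).reindex (Fintype.equivFin ι).symm)
  -- so `R` is a field
  letI : CommRing R := { R.toRing with mul_comm := fun a b => Subtype.ext (hcomm a a.2 b b.2) }
  haveI : Nontrivial (AddMonoid.End V) := ⟨1, 0, fun h => by
    obtain ⟨v, hv⟩ := exists_ne (0 : V)
    exact hv (DFunLike.congr_fun h v)⟩
  haveI : Nontrivial R := ⟨1, 0, fun h => by
    obtain ⟨v, hv⟩ := exists_ne (0 : V)
    exact hv (DFunLike.congr_fun (congrArg Subtype.val h) v)⟩
  have hfield : IsField R := by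
    refine ⟨⟨1, 0, one_ne_zero⟩, mul_comm, fun {a} ha => ?_⟩
    obtain ⟨i, j, hne, hij⟩ := Finite.exists_ne_map_eq_of_infinite (fun n : ℕ => a ^ n)
    wlog hlt : i < j generalizing i j
    · exact this j i (Ne.symm hne) hij.symm (by omega)
    replace hij : a ^ i = a ^ j := hij
    obtain ⟨d, rfl⟩ := Nat.exists_eq_add_of_lt hlt
    have hper : ∀ q t, a ^ (i + q + (d + 1) * t) = a ^ (i + q) := by
      intro q t
      induction t with
      | zero => simp
      | succ t ih =>
        rw [show i + q + (d + 1) * (t + 1) = (i + d + 1) + (q + (d + 1) * t) by ring, pow_add,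
          ← hij, ← pow_add, ← add_assoc, ih]
    let N0 := (d + 1) * (i + 1)
    have hN : a ^ N0 * a ^ N0 = a ^ N0 := by
      have hle : i ≤ N0 := le_trans (Nat.le_succ i) (Nat.le_mul_of_pos_left _ (Nat.succ_pos d))
      rw [← pow_add, show N0 + N0 = i + (N0 - i) + (d + 1) * (i + 1) by
        show N0 + N0 = i + (N0 - i) + N0; omega, hper, Nat.add_sub_cancel' hle]
    rcases hidem _ (a ^ N0).2 (congrArg Subtype.val hN) with h | h
    · exact absurd (Subtype.ext (hred a.1 a.2 ⟨N0, by rw [← SubmonoidClass.coe_pow]; exact h⟩)) ha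
    · refine ⟨a ^ (N0 - 1), Subtype.ext ?_⟩
      have hpos : 0 < N0 := Nat.mul_pos (Nat.succ_pos _) (Nat.succ_pos _)
      rw [← pow_succ', Nat.sub_add_cancel hpos, h]
      rfl
  letI : Field R := hfield.toField
  have hunitsmem : ∀ u : Rˣ, (Units.map R.subtype.toMonoidHom u : (AddMonoid.End V)ˣ) ∈ G := by
    let K : Subgroup (AddMonoid.End V)ˣ := (Units.map R.subtype.toMonoidHom).range
    have hGK : G ≤ Subgroup.normalizer (K : Set (AddMonoid.End V)ˣ) := by
      intro g hg
      rw [Subgroup.mem_normalizer_iff]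
      have hfw : ∀ (g : G) (x : (AddMonoid.End V)ˣ), x ∈ K →
          (g : (AddMonoid.End V)ˣ) * x * (g : (AddMonoid.End V)ˣ)⁻¹ ∈ K := by
        rintro g _ ⟨u, rfl⟩
        refine ⟨⟨⟨cj g u.1.1, hinv g _ u.1.2⟩, ⟨cj g u⁻¹.1.1, hinv g _ u⁻¹.1.2⟩, ?_, ?_⟩,
          Units.ext rfl⟩
        · refine Subtype.ext ?_
          show cj g u.1.1 * cj g u⁻¹.1.1 = 1
          rw [← map_mul, ← Subring.coe_mul, u.mul_inv, Subring.coe_one, map_one]
        · refine Subtype.ext ?_
          show cj g u⁻¹.1.1 * cj g u.1.1 = 1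
          rw [← map_mul, ← Subring.coe_mul, u.inv_mul, Subring.coe_one, map_one]
      intro x
      refine ⟨hfw ⟨g, hg⟩ x, fun hx => ?_⟩
      have := hfw ⟨g⁻¹, G.inv_mem hg⟩ _ hx
      simpa [mul_assoc] using this
    have hsolK : Group.IsSolvable (G ⊔ K : Subgroup (AddMonoid.End V)ˣ) := by
      haveI hKn : (K.subgroupOf (G ⊔ K)).Normal :=
        Subgroup.normal_subgroupOf_of_le_normalizer (sup_le hGK Subgroup.le_normalizer)
      haveI : Group.IsSolvable (K.subgroupOf (G ⊔ K)) := by
        refine Group.isSolvable_of_comm fun a b => ?_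
        refine Subtype.ext (Subtype.ext ?_)
        obtain ⟨u, hu⟩ := a.2
        obtain ⟨w, hw⟩ := b.2
        show a.1.1 * b.1.1 = b.1.1 * a.1.1
        rw [show a.1.1 = _ from hu.symm, show b.1.1 = _ from hw.symm, ← map_mul, ← map_mul,
          mul_comm]
      haveI := hsol
      let q : G →* (G ⊔ K : Subgroup (AddMonoid.End V)ˣ) ⧸ K.subgroupOf (G ⊔ K) :=
        (QuotientGroup.mk' _).comp (Subgroup.inclusion le_sup_left)
      have hq : Function.Surjective q := by
        intro y
        obtain ⟨x, rfl⟩ := QuotientGroup.mk'_surjective _ y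
        obtain ⟨g, hg, k, hk, e⟩ : ∃ g ∈ G, ∃ k ∈ K, g * k = x.1 := by
          have : x.1 ∈ ((G ⊔ K : Subgroup _) : Set (AddMonoid.End V)ˣ) := x.2
          rw [Subgroup.coe_mul_of_left_le_normalizer_right G K hGK] at this
          obtain ⟨g, hg, k, hk, e⟩ := this
          exact ⟨g, hg, k, hk, e⟩
        refine ⟨⟨g, hg⟩, ?_⟩
        refine (QuotientGroup.eq).mpr ?_
        rw [Subgroup.mem_subgroupOf]
        simp [← e, hk]
      haveI : Group.IsSolvable ((G ⊔ K : Subgroup (AddMonoid.End V)ˣ) ⧸ K.subgroupOf (G ⊔ K)) :=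
        Group.isSolvable_of_surjective hq
      exact Group.isSolvable_of_ker_le_range (K.subgroupOf (G ⊔ K)).subtype
        (QuotientGroup.mk' (K.subgroupOf (G ⊔ K))) (by simp)
    exact fun u => hmax _ le_sup_left hsolK (Subgroup.mem_sup_right ⟨u, rfl⟩)
  let σ : G →* (R ≃+* R) :=
    { toFun := fun g =>
        { toFun := fun a => ⟨cj g a.1, hinv g _ a.2⟩
          invFun := fun a => ⟨cj g⁻¹ a.1, hinv g⁻¹ _ a.2⟩
          left_inv := fun a => Subtype.ext (by simp [cj, mul_assoc])
          right_inv := fun a => Subtype.ext (by simp [cj, mul_assoc])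
          map_mul' := fun a b => Subtype.ext (map_mul (cj g) _ _)
          map_add' := fun a b => Subtype.ext (map_add (cj g) _ _) }
      map_one' := RingEquiv.ext fun a => Subtype.ext (by simp [cj])
      map_mul' := fun g h => RingEquiv.ext fun a => Subtype.ext (by simp [cj, mul_assoc]) }
  let S : Semi R V G :=
    { σ := σ
      smul_smul' := fun g c v => hcj g c.1 v
      sc := (Units.map R.subtype.toMonoidHom).codRestrict G hunitsmem
      sc_smul := fun c v => rfl
      faithful := fun g h => Subtype.ext (Units.ext (DFunLike.ext _ _ h))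
      nonzero := exists_ne 0
      max_abelian := by
        intro M hMn hMab hMsc x hx
        have hNM : N ≤ M := by
          intro y hy
          let u : R := ⟨((y : (AddMonoid.End V)ˣ) : AddMonoid.End V),
            Subring.subset_closure ⟨⟨y, hy⟩, rfl⟩⟩
          have hu : u ≠ 0 := fun h => by
            have := congrArg Subtype.val h
            exact (y : (AddMonoid.End V)ˣ).ne_zero this
          have := hMsc (Units.mk0 u hu)
          convert this using 1
          exact Subtype.ext (Units.ext rfl)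
        have hxN := hNmax M ⟨hMn, hMab⟩ hNM hx
        let u : R := ⟨((x : (AddMonoid.End V)ˣ) : AddMonoid.End V),
          Subring.subset_closure ⟨⟨x, hxN⟩, rfl⟩⟩
        have hu : u ≠ 0 := fun h => (x : (AddMonoid.End V)ˣ).ne_zero (congrArg Subtype.val h)
        exact ⟨Units.mk0 u hu, Subtype.ext (Units.ext rfl)⟩ }
  haveI : Finite R := Finite.of_injective _ Subtype.val_injective
  exact ⟨R, inferInstance, inferInstance, inferInstance, ⟨S⟩⟩

end Cfsg.Agent.SolvBound
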