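import Cfsg.Agent.SolvBound.Order

/-!
# Class numbers in some small linear groups
-/

set_option autoImplicit false
set_option linter.style.haveILetI false
set_option linter.unusedSectionVars false

open Matrix

namespace Cfsg.Agent.SolvBound

/-- All subgroups have at most `z + c` classes if outside a set of size `z` all centralisers have
order at most `c`. -/
theorem kb_of_centralizer {G : Type*} [Group G] [Finite G] (Z : Set G) {z c : ℕ}
    (hz : Z.ncard ≤ z)
    (h : ∀ g, g ∉ Z → Nat.card (Subgroup.centralizer ({g} : Set G)) ≤ c) : KB G (z + c) := by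
  classical
  intro X
  haveI : Fintype X := Fintype.ofFinite X
  refine Nat.le_of_mul_le_mul_right ?_ (Nat.card_pos (α := X))
  refine (kc_mul_card_le (fun x : X => if (x : G) ∈ Z then Nat.card X else c) fun x => ?_).trans ?_
  · split_ifs with hx
    · exact Subgroup.card_le_card_group _
    · refine le_trans ?_ (h x hx)
      refine Nat.card_le_card_of_injective (fun y : Subgroup.centralizer ({x} : Set X) =>
        (⟨((y : X) : G), Subgroup.mem_centralizer_singleton_iff.mpr
          (congrArg Subtype.val (Subgroup.mem_centralizer_singleton_iff.mp y.2))⟩ :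
            Subgroup.centralizer ({(x : G)} : Set G))) fun a b e => ?_
      exact Subtype.ext (Subtype.ext (congrArg Subtype.val e :))
  · rw [Finset.sum_ite, Finset.sum_const, Finset.sum_const, smul_eq_mul, smul_eq_mul, add_mul]
    refine Nat.add_le_add (Nat.mul_le_mul_right _ ?_) ?_
    · refine le_trans ?_ hz
      rw [← Set.ncard_coe_finset]
      refine Set.ncard_le_ncard_of_injOn (fun x : X => (x : G)) (fun x hx => ?_)
        (Subtype.val_injective.injOn) (Set.toFinite _)
      simpa using hx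
    · rw [mul_comm c]
      refine Nat.mul_le_mul_right _ ?_
      rw [Nat.card_eq_fintype_card]
      exact Finset.card_le_univ _

theorem kb_perm_three : KB (Equiv.Perm (Fin 3)) 3 := by
  intro X
  have h6 : Nat.card (Equiv.Perm (Fin 3)) = 6 := by
    rw [Nat.card_perm, Nat.card_fin]; rfl
  by_cases h : X = ⊤
  · subst h
    rw [kc_congr Subgroup.topEquiv, kc, Nat.card_eq_fintype_card]
    decide +kernel
  · have hd := Subgroup.card_subgroup_dvd_card X
    have hne : Nat.card X ≠ 6 := fun e => h (Subgroup.eq_top_of_card_eq X (e.trans h6.symm))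
    rw [h6] at hd
    refine (kc_le_card X).trans ?_
    have := Nat.le_of_dvd (by norm_num) hd
    interval_cases Nat.card X <;> omega

variable {V : Type} [AddCommGroup V] [Finite V]

/-- The action on the non-zero vectors. -/
def nzPerm (V : Type) [AddCommGroup V] :
    (AddMonoid.End V)ˣ →* Equiv.Perm {v : V // v ≠ 0} where
  toFun u := Equiv.Perm.subtypePerm (MulAction.toPerm u) fun v => by simp [smul_eq_zero_iff_eq]
  map_one' := Equiv.ext fun v => Subtype.ext (one_smul (AddMonoid.End V)ˣ (v : V))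
  map_mul' u w := Equiv.ext fun v => Subtype.ext (mul_smul u w (v : V))

theorem nzPerm_injective : Function.Injective (nzPerm V) := fun u w h => by
  refine Units.ext (DFunLike.ext _ _ fun v => ?_)
  by_cases hv : v = 0
  · rw [hv, map_zero, map_zero]
  · show u • v = w • v
    exact congrArg Subtype.val (Equiv.congr_fun h ⟨v, hv⟩)

theorem card_nz : Nat.card {v : V // v ≠ 0} = Nat.card V - 1 := by
  classical
  haveI : Fintype V := Fintype.ofFinite V
  rw [Nat.card_eq_fintype_card, Nat.card_eq_fintype_card, Fintype.card_subtype_compl,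
    Fintype.card_subtype_eq]

theorem card_end_le (H : Subgroup (AddMonoid.End V)ˣ) :
    Nat.card H ≤ (Nat.card V - 1).factorial := by
  classical
  rw [← card_nz (V := V), ← Nat.card_perm]
  exact Nat.card_le_card_of_injective (fun h : H => nzPerm V h)
    (nzPerm_injective.comp Subtype.val_injective)

theorem kb_four (hV : Nat.card V = 4) : KB (AddMonoid.End V)ˣ 3 := by
  classical
  have h3 : Nat.card {v : V // v ≠ 0} = 3 := by rw [card_nz, hV]
  let e : {v : V // v ≠ 0} ≃ Fin 3 := Nat.equivFinOfCardPos (by omega) |>.trans (finCongr h3)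
  exact kb_perm_three.comap (e.permCongrHom.toMonoidHom.comp (nzPerm V))
    (e.permCongrHom.injective.comp nzPerm_injective)

/-! ### `SL(2, r)` -/

abbrev SL2 (r : ℕ) := Matrix.SpecialLinearGroup (Fin 2) (ZMod r)

variable {r : ℕ} [Fact r.Prime]

theorem sl2_det (g : SL2 r) :
    g.1 0 0 * g.1 1 1 - g.1 0 1 * g.1 1 0 = 1 := by
  rw [← Matrix.det_fin_two]; exact g.2

theorem card_sl2_le : Nat.card (SL2 r) ≤ (r ^ 2 - 1) * r := by
  classical
  have hc : Nat.card {v : ZMod r × ZMod r // v ≠ 0} = r ^ 2 - 1 := by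
    rw [Nat.card_eq_fintype_card, Fintype.card_subtype_compl, Fintype.card_subtype_eq,
      Fintype.card_prod, ZMod.card, sq]
  suffices h : Nat.card (SL2 r) ≤ Nat.card ({v : ZMod r × ZMod r // v ≠ 0} × ZMod r) by
    rwa [Nat.card_prod, hc, Nat.card_zmod] at h
  refine Nat.card_le_card_of_injective (fun g : SL2 r =>
    ((⟨(g.1 0 0, g.1 1 0), fun h => by
        have h0 := congrArg Prod.fst h
        have h1 := congrArg Prod.snd h
        simp only [Prod.fst_zero, Prod.snd_zero] at h0 h1
        have := sl2_det g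
        rw [h0, h1] at this
        simp at this⟩ : {v : ZMod r × ZMod r // v ≠ 0}),
      if g.1 0 0 = 0 then g.1 1 1 else g.1 0 1)) fun g g' h => ?_
  have h00 : g.1 0 0 = g'.1 0 0 := congrArg (fun p => p.1.1.1) h
  have h10 : g.1 1 0 = g'.1 1 0 := congrArg (fun p => p.1.1.2) h
  have h2 := congrArg Prod.snd h
  simp only at h2
  have hd := sl2_det g
  have hd' := sl2_det g'
  rw [← h00] at h2
  rw [← h00, ← h10] at hd'
  refine Subtype.ext (Matrix.ext fun i j => ?_)
  by_cases h0 : g.1 0 0 = 0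
  · rw [if_pos h0, if_pos h0] at h2
    have hne : g.1 1 0 ≠ 0 := fun e => by rw [h0, e] at hd; simp at hd
    have h01 : g.1 0 1 = g'.1 0 1 := by
      rw [h0] at hd hd'
      simp only [zero_mul, zero_sub] at hd hd'
      exact mul_right_cancel₀ hne (neg_injective (hd.trans hd'.symm))
    fin_cases i <;> fin_cases j <;> assumption
  · rw [if_neg h0, if_neg h0] at h2
    have h11 : g.1 1 1 = g'.1 1 1 := by
      rw [← h2] at hd'
      exact mul_left_cancel₀ h0 (sub_left_injective (hd.trans hd'.symm))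
    fin_cases i <;> fin_cases j <;> assumption

/-- Entries. -/
def quad (g : SL2 r) : ZMod r × ZMod r × ZMod r × ZMod r :=
  (g.1 0 0, g.1 0 1, g.1 1 0, g.1 1 1)

theorem quad_injective : Function.Injective (quad (r := r)) := fun g g' h => by
  refine Subtype.ext (Matrix.ext fun i j => ?_)
  have h00 : g.1 0 0 = g'.1 0 0 := congrArg (fun p => p.1) h
  have h01 : g.1 0 1 = g'.1 0 1 := congrArg (fun p => p.2.1) h
  have h10 : g.1 1 0 = g'.1 1 0 := congrArg (fun p => p.2.2.1) h
  have h11 : g.1 1 1 = g'.1 1 1 := congrArg (fun p => p.2.2.2) h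
  fin_cases i <;> fin_cases j <;> assumption

theorem sl2_comm {g x : SL2 r} (h : g * x = x * g) :
    g.1 0 1 * x.1 1 0 = x.1 0 1 * g.1 1 0 ∧
    g.1 0 0 * x.1 0 1 + g.1 0 1 * x.1 1 1 = x.1 0 0 * g.1 0 1 + x.1 0 1 * g.1 1 1 ∧
    g.1 1 0 * x.1 0 0 + g.1 1 1 * x.1 1 0 = x.1 1 0 * g.1 0 0 + x.1 1 1 * g.1 1 0 := by
  have hm : g.1 * x.1 = x.1 * g.1 := congrArg Subtype.val h
  have h00 := congrFun (congrFun hm 0) 0
  have h01 := congrFun (congrFun hm 0) 1
  have h10 := congrFun (congrFun hm 1) 0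
  simp only [Matrix.mul_apply, Fin.sum_univ_two] at h00 h01 h10
  refine ⟨?_, h01, h10⟩
  linear_combination h00

/-- Commutation of quadruples. -/
def QC (r : ℕ) (a x : ZMod r × ZMod r × ZMod r × ZMod r) : Prop :=
  x.1 * x.2.2.2 - x.2.1 * x.2.2.1 = 1 ∧
  a.2.1 * x.2.2.1 = x.2.1 * a.2.2.1 ∧
  a.1 * x.2.1 + a.2.1 * x.2.2.2 = x.1 * a.2.1 + x.2.1 * a.2.2.2 ∧
  a.2.2.1 * x.1 + a.2.2.2 * x.2.2.1 = x.2.2.1 * a.1 + x.2.2.2 * a.2.2.1

instance (r : ℕ) [NeZero r] (a x : ZMod r × ZMod r × ZMod r × ZMod r) : Decidable (QC r a x) := by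
  unfold QC; infer_instance

theorem kb_sl2_three : KB (SL2 3) 9 := by
  classical
  have hdec : ∀ a : ZMod 3 × ZMod 3 × ZMod 3 × ZMod 3,
      a.1 * a.2.2.2 - a.2.1 * a.2.2.1 = 1 → ¬ (a.2.1 = 0 ∧ a.2.2.1 = 0 ∧ a.1 = a.2.2.2) →
      (Finset.univ.filter fun x => QC 3 a x).card ≤ 6 := by decide +kernel
  let Z : Set (SL2 3) := {g | g.1 0 1 = 0 ∧ g.1 1 0 = 0 ∧ g.1 0 0 = g.1 1 1}
  refine (kb_of_centralizer Z (z := 3) (c := 6) ?_ fun g hg => ?_)
  · have hZ : Z.InjOn fun g => g.1 0 0 := fun g hg g' hg' h => by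
      obtain ⟨h1, h2, h3⟩ := hg
      obtain ⟨h1', h2', h3'⟩ := hg'
      refine quad_injective ?_
      simp only [quad, h1, h2, h1', h2', ← h3, ← h3', show g.1 0 0 = g'.1 0 0 from h]
    calc Z.ncard ≤ (Set.univ : Set (ZMod 3)).ncard :=
          Set.ncard_le_ncard_of_injOn _ (fun _ _ => Set.mem_univ _) hZ (Set.toFinite _)
      _ = 3 := by rw [Set.ncard_univ, Nat.card_zmod]
  · refine le_trans ?_ (hdec (quad g) (sl2_det g) hg)
    rw [← Nat.card_eq_finsetCard]
    refine Nat.card_le_card_of_injective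
      (fun x : Subgroup.centralizer ({g} : Set (SL2 3)) =>
        (⟨quad (x : SL2 3), Finset.mem_filter.mpr ⟨Finset.mem_univ _, sl2_det _,
          sl2_comm (Subgroup.mem_centralizer_singleton_iff.mp x.2).symm⟩⟩ :
          {q // q ∈ Finset.univ.filter fun x => QC 3 (quad g) x}))
      fun x y h => Subtype.ext (quad_injective (congrArg Subtype.val h))

theorem kb_sl2_five : KB (SL2 5) 81 := by
  classical
  have hdec : (Finset.univ.filter fun x : ZMod 5 × ZMod 5 × ZMod 5 × ZMod 5 =>
      QC 5 (1, 1, 0, 1) x ∧ QC 5 (1, 0, 1, 1) x).card ≤ 2 := by decide +kernel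
  haveI : Fact (Nat.Prime 5) := ⟨by norm_num⟩
  have hcard : Nat.card (SL2 5) ≤ 120 := card_sl2_le
  refine (kb_of_centralizer (Subgroup.center (SL2 5) : Set (SL2 5)) (z := 2) (c := 60) ?_
    fun g hg => ?_).mono (by norm_num)
  · refine le_trans ?_ hdec
    rw [← Set.ncard_coe_finset]
    refine Set.ncard_le_ncard_of_injOn quad (fun g hg => ?_) quad_injective.injOn
      (Set.toFinite _)
    have hc := Subgroup.mem_center_iff.mp hg
    have ht := sl2_comm (hc (⟨!![1, 1; 0, 1], by simp [Matrix.det_fin_two]⟩ : SL2 5))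
    have hu := sl2_comm (hc (⟨!![1, 0; 1, 1], by simp [Matrix.det_fin_two]⟩ : SL2 5))
    exact Finset.mem_coe.mpr (Finset.mem_filter.mpr
      ⟨Finset.mem_univ _, ⟨sl2_det g, ht⟩, ⟨sl2_det g, hu⟩⟩)
  · have hne : Subgroup.centralizer ({g} : Set (SL2 5)) ≠ ⊤ := fun h => hg <| by
      refine Subgroup.mem_center_iff.mpr fun x => ?_
      exact Subgroup.mem_centralizer_singleton_iff.mp (h ▸ Subgroup.mem_top x)
    have h2 := Subgroup.one_lt_index_of_ne_top hne
    have h3 := Subgroup.card_mul_index (Subgroup.centralizer ({g} : Set (SL2 5)))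
    nlinarith

/-- An automorphism group preserving a pairing on a group of order `r²` embeds in `SL(2, r)`. -/
theorem exists_sl2_embedding {W U : Type} [CommGroup W] [Finite W] [CommGroup U] (P : Pairing W U)
    (hexp : ∀ w : W, w ^ r = 1) (hcard : Nat.card W = r ^ 2) (H : Subgroup (MulAut W))
    (hω : ∀ h ∈ H, ∀ a b, P.ω (h a) (h b) = P.ω a b) :
    ∃ f : H →* SL2 r, Function.Injective f := by
  classical
  have hr : r.Prime := Fact.out
  haveI : Nontrivial W := Finite.one_lt_card_iff_nontrivial.mp (by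
    rw [hcard]; exact Nat.one_lt_pow two_ne_zero hr.one_lt)
  obtain ⟨x, hx⟩ := exists_ne (1 : W)
  obtain ⟨y, hxy⟩ : ∃ y, P.ω x y ≠ 1 := by
    by_contra hc
    push Not at hc
    exact hx (P.nondeg x hc)
  have hord : orderOf (P.ω x y) = r := orderOf_eq_prime
    (by rw [← MonoidHom.pow_apply, ← map_pow, hexp, map_one, MonoidHom.one_apply]) hxy
  have hadd : ∀ (w : W) (a b : ZMod r), w ^ (a + b).val = w ^ a.val * w ^ b.val := fun w a b => by
    rw [← pow_add, ZMod.val_add, ← pow_eq_pow_mod _ (hexp w)]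
  have hmul : ∀ (w : W) (a b : ZMod r), w ^ (a * b).val = (w ^ a.val) ^ b.val := fun w a b => by
    rw [← pow_mul, ZMod.val_mul, ← pow_eq_pow_mod _ (hexp w)]
  let φ : (Fin 2 → ZMod r) → W := fun v => x ^ (v 0).val * y ^ (v 1).val
  have hφadd : ∀ v v', φ (v + v') = φ v * φ v' := fun v v' => by
    simp only [φ, Pi.add_apply, hadd]
    exact mul_mul_mul_comm _ _ _ _
  have hinj : Function.Injective φ := by
    intro v v' h
    have key : ∀ u : Fin 2 → ZMod r, φ u = 1 → u = 0 := by
      intro u hu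
      have h1 : P.ω x (φ u) = 1 := by rw [hu, map_one]
      have h2 : P.ω (φ u) y = 1 := by rw [hu, map_one, MonoidHom.one_apply]
      simp only [φ, map_mul, map_pow, P.alt, one_pow, one_mul] at h1
      simp only [φ, map_mul, map_pow, MonoidHom.mul_apply, MonoidHom.pow_apply, P.alt, one_pow,
        mul_one] at h2
      have h1' : (u 1).val = 0 := Nat.eq_zero_of_dvd_of_lt
        ((dvd_of_eq hord.symm).trans (orderOf_dvd_of_pow_eq_one h1)) (ZMod.val_lt _)
      have h2' : (u 0).val = 0 := Nat.eq_zero_of_dvd_of_lt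
        ((dvd_of_eq hord.symm).trans (orderOf_dvd_of_pow_eq_one h2)) (ZMod.val_lt _)
      funext i
      fin_cases i
      · exact (ZMod.val_eq_zero _).mp h2'
      · exact (ZMod.val_eq_zero _).mp h1'
    have h0 := hφadd (v - v') v'
    rw [sub_add_cancel, h] at h0
    exact sub_eq_zero.mp (key _ (right_eq_mul.mp h0 : φ (v - v') = 1))
  have hbij : Function.Bijective φ := by
    refine hinj.bijective_of_nat_card_le (le_of_eq ?_)
    rw [hcard, Nat.card_fun, Nat.card_fin, Nat.card_zmod]
  choose ψ hψ using hbij.2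
  let M : H → Matrix (Fin 2) (Fin 2) (ZMod r) := fun h =>
    Matrix.of fun i j => ψ (if j = 0 then (h : MulAut W) x else (h : MulAut W) y) i
  have hM : ∀ (h : H) v, φ ((M h) *ᵥ v) = (h : MulAut W) (φ v) := by
    intro h v
    have hcol : (M h) *ᵥ v = (fun i => ψ ((h : MulAut W) x) i * v 0) +
        (fun i => ψ ((h : MulAut W) y) i * v 1) := by
      funext i
      simp [M, Matrix.mulVec, dotProduct, Fin.sum_univ_two]
    rw [hcol, hφadd]
    have hs : ∀ z (c : ZMod r), φ (fun i => ψ z i * c) = z ^ c.val := fun z c => by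
      simp only [φ, hmul]
      rw [← mul_pow]
      exact congrArg (· ^ c.val) (hψ z)
    rw [hs, hs]
    show _ = (h : MulAut W) (x ^ (v 0).val * y ^ (v 1).val)
    rw [map_mul, map_pow, map_pow]
  have hdet : ∀ h : H, (M h).det = 1 := by
    intro h
    have key := hω h h.2 x y
    rw [← hψ ((h : MulAut W) x), ← hψ ((h : MulAut W) y)] at key
    simp only [φ, map_mul, map_pow, MonoidHom.mul_apply, MonoidHom.pow_apply, P.alt, one_pow,
      one_mul, mul_one] at key
    rw [P.swap y x] at key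
    rw [Matrix.det_fin_two]
    simp only [M, Matrix.of_apply, if_pos, Fin.one_eq_zero_iff, OfNat.ofNat_ne_one, if_false]
    set a := ψ ((h : MulAut W) x) 0
    set c := ψ ((h : MulAut W) x) 1
    set b := ψ ((h : MulAut W) y) 0
    set d := ψ ((h : MulAut W) y) 1
    rw [inv_pow, inv_pow, ← pow_mul, ← pow_mul, inv_mul_eq_iff_eq_mul, ← pow_succ, pow_inj_mod,
      hord, ← ZMod.natCast_eq_natCast_iff'] at key
    push_cast at key
    simp only [ZMod.natCast_zmod_val] at key
    linear_combination key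
  have hMm : ∀ g h : H, M (g * h) = M g * M h := fun g h =>
    Matrix.ext_iff_mulVec.mpr fun v => hinj (by
      rw [hM, ← Matrix.mulVec_mulVec, hM, hM]
      rfl)
  refine ⟨MonoidHom.mk' (fun h => (⟨M h, hdet h⟩ : SL2 r)) fun g h => Subtype.ext (hMm g h),
    fun g h e => Subtype.ext (MulEquiv.ext fun w => ?_)⟩
  obtain ⟨v, rfl⟩ := hbij.2 w
  rw [← hM, ← hM]
  exact congrArg (fun A => φ (A *ᵥ v)) (congrArg Subtype.val e :)

end Cfsg.Agent.SolvBound
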