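import Cfsg.Agent.SolvBound.SmallGroups

/-!
# Small soluble linear groups
-/

set_option autoImplicit false
set_option linter.style.haveILetI false
set_option linter.unusedSectionVars false

namespace Cfsg.Agent.SolvBound

open BaseSize

theorem prime_pow_split {p r d n k : ℕ} (hp : p.Prime) (hr : r.Prime) (hd : 1 ≤ d) (hn : 1 ≤ n)
    (h : r ^ k = (p ^ d) ^ n) : p = r ∧ d * n = k := by
  rw [← pow_mul] at h
  have hpr : p = r := (Nat.prime_dvd_prime_iff_eq hp hr).mp
    (hp.dvd_of_dvd_pow (h ▸ dvd_pow_self p (Nat.mul_ne_zero (by omega) (by omega))))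
  subst hpr
  exact ⟨rfl, (Nat.pow_right_injective hp.two_le h).symm⟩

theorem base_pow_split {c t r k : ℕ} (hr : r.Prime) (hc : 2 ≤ c) (ht : 1 ≤ t) (h : r ^ k = c ^ t) :
    ∃ j, 1 ≤ j ∧ c = r ^ j ∧ j * t = k := by
  obtain ⟨j, -, rfl⟩ := (Nat.dvd_prime_pow hr).mp (h ▸ dvd_pow_self c (by omega))
  rw [← pow_mul] at h
  exact ⟨j, Nat.one_le_iff_ne_zero.mpr fun e => by simp [e] at hc, rfl,
    (Nat.pow_right_injective hr.two_le h).symm⟩

theorem card_perm_subgroup_le {t : ℕ} (T : Subgroup (Equiv.Perm (Fin t))) :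
    Nat.card T ≤ t.factorial :=
  (Subgroup.card_le_card_group T).trans_eq (by rw [Nat.card_perm, Nat.card_fin])

variable {V : Type} [AddCommGroup V] [Finite V] [Nontrivial V]
variable {H : Subgroup (AddMonoid.End V)ˣ}

/-- The bound from the data of a primitive group. -/
theorem primitive_le (hsol : Group.IsSolvable H) (hirr : Irr H) (hno : NoDecomp H) :
    ∃ p d n e : ℕ, p.Prime ∧ 1 ≤ d ∧ 1 ≤ n ∧ 1 ≤ e ∧ Nat.card V = (p ^ d) ^ n ∧ e ≤ n ∧
      (∀ r, r.Prime → r ∣ e → r ∣ p ^ d - 1) ∧
      ∀ b : ℕ, (∀ (W U : Type) [CommGroup W] [Finite W] [CommGroup U] [Finite U] [IsCyclic U]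
          (P : Pairing W U) (L : Subgroup (MulAut W)), Group.IsSolvable L → CRM L →
          (∀ h ∈ L, ∀ x y, P.ω (h x) (h y) = P.ω x y) →
          (∃ m : ℕ, Squarefree m ∧ ∀ w : W, w ^ m = 1) → Nat.card W = e ^ 2 → Nat.card L ≤ b) →
        Nat.card H ≤ d * (p ^ d - 1) * e ^ 2 * b := by
  obtain ⟨G, D, p, d, n, hHG, hp, hd, hn, hG, hVc, hU, hidx, hWn, -⟩ :=
    primitive_data hsol hirr hno
  haveI := hG
  haveI := D.cyclic
  obtain ⟨e, he⟩ := D.exists_sq
  have he0 : 0 < e := by
    rcases Nat.eq_zero_or_pos e with h | h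
    · exact absurd he (by rw [h]; exact Nat.card_pos.ne')
    · exact h
  have hen : e ≤ n := by
    rw [he] at hWn
    exact (Nat.pow_le_pow_iff_left two_ne_zero).mp hWn
  refine ⟨p, d, n, e, hp, hd, hn, he0, hVc, hen, fun r hr hre =>
    hU ▸ D.prime_dvd_U hr (he ▸ dvd_pow hre two_ne_zero), fun b hb => ?_⟩
  have hL : Nat.card D.linRange ≤ b := hb D.W D.U D.pairing D.linRange
    (solvable_range inferInstance _) D.linRange_crm
    (by rintro _ ⟨⟨g, hg⟩, rfl⟩ x y; exact D.pairing_act hg x y) ⟨D.n, D.hn, D.pow_eq_one⟩ he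
  calc Nat.card H ≤ Nat.card G := Subgroup.card_le_of_le hHG
    _ = Nat.card D.lin * D.lin.index := (Subgroup.card_mul_index _).symm
    _ ≤ Nat.card D.B * Nat.card D.linRange * d := Nat.mul_le_mul D.card_lin_le hidx
    _ = d * (p ^ d - 1) * e ^ 2 * Nat.card D.linRange := by rw [D.card_B, hU, he]; ring
    _ ≤ _ := Nat.mul_le_mul_left _ hL

/-- `|W| = 1`. -/
theorem bound_one {W : Type} [CommGroup W] [Finite W] (L : Subgroup (MulAut W))
    (h : Nat.card W = 1 ^ 2) : Nat.card L ≤ 1 := by
  refine (Subgroup.card_le_card_group L).trans ((card_mulAut_le W).trans ?_)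
  rw [h]; exact le_rfl

theorem bound_four {W : Type} [CommGroup W] [Finite W] (L : Subgroup (MulAut W))
    (h : Nat.card W = 2 ^ 2) : Nat.card L ≤ 6 := by
  refine (Subgroup.card_le_card_group L).trans ((card_mulAut_le W).trans ?_)
  rw [h]; decide

theorem exp_of_squarefree {W : Type} [CommGroup W] [Finite W] {r m : ℕ} (hr : r.Prime) {k : ℕ}
    (hcard : Nat.card W = r ^ k) (hm : Squarefree m) (hexp : ∀ w : W, w ^ m = 1) (w : W) :
    w ^ r = 1 := by
  obtain ⟨i, -, hi⟩ := (Nat.dvd_prime_pow hr).mp (hcard ▸ orderOf_dvd_natCard w)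
  have hdm : r ^ i ∣ m := hi ▸ orderOf_dvd_of_pow_eq_one (hexp w)
  refine orderOf_dvd_iff_pow_eq_one.mp (hi ▸ ?_)
  rcases Nat.lt_or_ge i 2 with h | h
  · exact (pow_dvd_pow r (by omega : i ≤ 1)).trans (pow_one r).dvd
  · exact absurd (hm r ((sq r ▸ pow_dvd_pow r h).trans hdm)) (by simpa using hr.ne_one)

theorem card_le_eight (hV : Nat.card V = 8) (hsol : Group.IsSolvable H) (hcr : CR H) :
    Nat.card H ≤ 21 := by
  classical
  by_cases hirr : Irr H
  swap
  · obtain ⟨V₁, V₂, _, _, _, _, H₁, H₂, -, -, -, -, h1, h2, hVc, hH, -⟩ :=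
      reducible_split hsol hcr hirr
    rw [hV] at hVc
    have hd1 : Nat.card V₁ ∣ 2 ^ 3 := ⟨_, hVc⟩
    obtain ⟨j, hj, hj'⟩ := (Nat.dvd_prime_pow Nat.prime_two).mp hd1
    have b1 := card_end_le H₁
    have b2 := card_end_le H₂
    refine hH.trans ((Nat.mul_le_mul b1 b2).trans ?_)
    rw [hj'] at hVc h1 ⊢
    interval_cases j
    · omega
    · rw [show Nat.card V₂ = 4 by omega]; decide
    · rw [show Nat.card V₂ = 2 by omega]; decide
    · omega
  by_cases hno : NoDecomp H
  swap
  · simp only [NoDecomp, not_forall, not_isEmpty_iff] at hno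
    obtain ⟨t, ht, ⟨dec⟩⟩ := hno
    obtain ⟨c, W, _, _, K, T, -, -, -, hc2, hWc, hVc, hH, -⟩ := imprimitive_split hsol hirr ht dec
    obtain ⟨j, hj1, rfl, hjt⟩ := base_pow_split Nat.prime_two hc2 (by omega)
      (show 2 ^ 3 = c ^ t by rw [← hVc, hV]; norm_num)
    have ht3 : t ≤ 3 := by nlinarith
    refine hH.trans ((Nat.mul_le_mul (Finset.prod_le_prod' fun i _ => card_end_le (K i))
      (card_perm_subgroup_le T)).trans ?_)
    simp only [hWc, Finset.prod_const, Finset.card_univ, Fintype.card_fin]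
    interval_cases t
    · omega
    · rw [show j = 1 by omega]; decide
  obtain ⟨p, d, n, e, hp, hd, hn, he1, hVc, hen, hdiv, hb⟩ := primitive_le hsol hirr hno
  obtain ⟨rfl, hdn⟩ := prime_pow_split (k := 3) hp Nat.prime_two hd hn (by rw [← hVc, hV]; norm_num)
  have hd3 : d ≤ 3 := by nlinarith
  interval_cases d
  · have hn3 : n = 3 := by omega
    have he : e = 1 := by
      by_contra h
      obtain ⟨r, hr, hre⟩ := Nat.exists_prime_and_dvd h
      exact hr.ne_one (Nat.dvd_one.mp (hdiv r hr hre))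
    subst he
    exact (hb 1 fun W U _ _ _ _ _ P L _ _ _ _ hW => bound_one L hW).trans (by norm_num)
  · omega
  · have hn1 : n = 1 := by omega
    have he : e = 1 := by omega
    subst he
    exact (hb 1 fun W U _ _ _ _ _ P L _ _ _ _ hW => bound_one L hW).trans (by norm_num)

theorem card_le_nine (hV : Nat.card V = 9) (hsol : Group.IsSolvable H) (hcr : CR H) :
    Nat.card H ≤ 48 := by
  classical
  by_cases hirr : Irr H
  swap
  · obtain ⟨V₁, V₂, _, _, _, _, H₁, H₂, -, -, -, -, h1, h2, hVc, hH, -⟩ :=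
      reducible_split hsol hcr hirr
    rw [hV] at hVc
    have hd1 : Nat.card V₁ ∣ 3 ^ 2 := ⟨_, hVc⟩
    obtain ⟨j, hj, hj'⟩ := (Nat.dvd_prime_pow Nat.prime_three).mp hd1
    have b1 := card_end_le H₁
    have b2 := card_end_le H₂
    refine hH.trans ((Nat.mul_le_mul b1 b2).trans ?_)
    rw [hj'] at hVc h1 ⊢
    interval_cases j
    · omega
    · rw [show Nat.card V₂ = 3 by omega]; decide
    · omega
  by_cases hno : NoDecomp H
  swap
  · simp only [NoDecomp, not_forall, not_isEmpty_iff] at hno
    obtain ⟨t, ht, ⟨dec⟩⟩ := hno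
    obtain ⟨c, W, _, _, K, T, -, -, -, hc2, hWc, hVc, hH, -⟩ := imprimitive_split hsol hirr ht dec
    obtain ⟨j, hj1, rfl, hjt⟩ := base_pow_split Nat.prime_three hc2 (by omega)
      (show 3 ^ 2 = c ^ t by rw [← hVc, hV]; norm_num)
    have ht2 : t ≤ 2 := by nlinarith
    refine hH.trans ((Nat.mul_le_mul (Finset.prod_le_prod' fun i _ => card_end_le (K i))
      (card_perm_subgroup_le T)).trans ?_)
    simp only [hWc, Finset.prod_const, Finset.card_univ, Fintype.card_fin]
    interval_cases t
    rw [show j = 1 by omega]; decide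
  obtain ⟨p, d, n, e, hp, hd, hn, he1, hVc, hen, hdiv, hb⟩ := primitive_le hsol hirr hno
  obtain ⟨rfl, hdn⟩ := prime_pow_split (k := 2) hp Nat.prime_three hd hn
    (by rw [← hVc, hV]; norm_num)
  have hd2 : d ≤ 2 := by nlinarith
  interval_cases d
  · have hn2 : n = 2 := by omega
    have he : e ≤ 2 := by omega
    interval_cases e
    · exact (hb 1 fun W U _ _ _ _ _ P L _ _ _ _ hW => bound_one L hW).trans (by norm_num)
    · exact (hb 6 fun W U _ _ _ _ _ P L _ _ _ _ hW => bound_four L hW).trans (by norm_num)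
  · have he : e = 1 := by nlinarith
    subst he
    exact (hb 1 fun W U _ _ _ _ _ P L _ _ _ _ hW => bound_one L hW).trans (by norm_num)

theorem card_le_sixteen (hV : Nat.card V = 16) (hsol : Group.IsSolvable H) (hcr : CR H) :
    Nat.card H ≤ 72 := by
  classical
  by_cases hirr : Irr H
  swap
  · obtain ⟨V₁, V₂, _, _, _, _, H₁, H₂, hs1, hc1, hs2, hc2, h1, h2, hVc, hH, -⟩ :=
      reducible_split hsol hcr hirr
    rw [hV] at hVc
    have hd1 : Nat.card V₁ ∣ 2 ^ 4 := ⟨_, hVc⟩
    obtain ⟨j, hj, hj'⟩ := (Nat.dvd_prime_pow Nat.prime_two).mp hd1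
    have b1 := card_end_le H₁
    have b2 := card_end_le H₂
    haveI : Nontrivial V₁ := Finite.one_lt_card_iff_nontrivial.mp h1
    haveI : Nontrivial V₂ := Finite.one_lt_card_iff_nontrivial.mp h2
    rw [hj'] at hVc h1 b1
    interval_cases j
    · omega
    · have b2' := card_le_eight (show Nat.card V₂ = 8 by omega) hs2 hc2
      exact hH.trans ((Nat.mul_le_mul b1 b2').trans (by decide))
    · rw [show Nat.card V₂ = 4 by omega] at b2
      exact hH.trans ((Nat.mul_le_mul b1 b2).trans (by decide))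
    · have b1' := card_le_eight (show Nat.card V₁ = 8 by omega) hs1 hc1
      rw [show Nat.card V₂ = 2 by omega] at b2
      exact hH.trans ((Nat.mul_le_mul b1' b2).trans (by decide))
    · omega
  by_cases hno : NoDecomp H
  swap
  · simp only [NoDecomp, not_forall, not_isEmpty_iff] at hno
    obtain ⟨t, ht, ⟨dec⟩⟩ := hno
    obtain ⟨c, W, _, _, K, T, -, -, -, hc2, hWc, hVc, hH, -⟩ := imprimitive_split hsol hirr ht dec
    obtain ⟨j, hj1, rfl, hjt⟩ := base_pow_split Nat.prime_two hc2 (by omega)
      (show 2 ^ 4 = c ^ t by rw [← hVc, hV]; norm_num)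
    have ht4 : t ≤ 4 := by nlinarith
    refine hH.trans ((Nat.mul_le_mul (Finset.prod_le_prod' fun i _ => card_end_le (K i))
      (card_perm_subgroup_le T)).trans ?_)
    simp only [hWc, Finset.prod_const, Finset.card_univ, Fintype.card_fin]
    interval_cases t
    · rw [show j = 2 by omega]; decide
    · omega
    · rw [show j = 1 by omega]; decide
  obtain ⟨p, d, n, e, hp, hd, hn, he1, hVc, hen, hdiv, hb⟩ := primitive_le hsol hirr hno
  obtain ⟨rfl, hdn⟩ := prime_pow_split (k := 4) hp Nat.prime_two hd hn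
    (by rw [← hVc, hV]; norm_num)
  have hd4 : d ≤ 4 := by nlinarith
  have he : e = 1 := by
    by_contra h
    obtain ⟨r, hr, hre⟩ := Nat.exists_prime_and_dvd h
    have hre' := Nat.le_of_dvd (by omega) hre
    have hr' := hdiv r hr hre
    interval_cases d
    · exact hr.ne_one (Nat.dvd_one.mp hr')
    · have : r = 2 := by have := hr.two_le; omega
      subst this
      norm_num at hr'
    · omega
    · have := hr.two_le; omega
  subst he
  refine (hb 1 fun W U _ _ _ _ _ P L _ _ _ _ hW => bound_one L hW).trans ?_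
  interval_cases d <;> norm_num

/-- Irreducible groups on a space of order `16`. -/
theorem kb_irr_sixteen (hV : Nat.card V = 16) (hsol : Group.IsSolvable H) (hirr : Irr H) :
    KB H 27 := by
  classical
  by_cases hno : NoDecomp H
  swap
  · simp only [NoDecomp, not_forall, not_isEmpty_iff] at hno
    obtain ⟨t, ht, ⟨dec⟩⟩ := hno
    obtain ⟨c, W, _, _, K, T, -, -, -, hc2, hWc, hVc, hH, hKB⟩ := imprimitive_split hsol hirr ht dec
    obtain ⟨j, hj1, rfl, hjt⟩ := base_pow_split Nat.prime_two hc2 (by omega)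
      (show 2 ^ 4 = c ^ t by rw [← hVc, hV]; norm_num)
    have ht4 : t ≤ 4 := by nlinarith
    interval_cases t
    · have hj2 : j = 2 := by omega
      subst hj2
      refine (hKB (fun _ => 3) fun i => (kb_four (by rw [hWc]; norm_num)).subgroup (K i)).mono ?_
      have := card_perm_subgroup_le T
      simp only [Finset.prod_const, Finset.card_univ, Fintype.card_fin]
      norm_num at this ⊢
      omega
    · omega
    · have hj' : j = 1 := by omega
      subst hj'
      refine KB.of_card_le (hH.trans ((Nat.mul_le_mul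
        (Finset.prod_le_prod' fun i _ => card_end_le (K i)) (card_perm_subgroup_le T)).trans ?_))
      simp only [hWc, Finset.prod_const, Finset.card_univ, Fintype.card_fin]
      decide
  obtain ⟨G, D, p, d, n, hHG, hp, hd, hn, hG, hVc, hU, hidx, hWn, hcent, -⟩ :=
    primitive_data hsol hirr hno
  obtain ⟨rfl, hdn⟩ := prime_pow_split (k := 4) hp Nat.prime_two hd hn
    (by rw [← hVc, hV]; norm_num)
  have hd4 : d ≤ 4 := by nlinarith
  haveI := hG
  haveI := D.cyclic
  obtain ⟨e, he⟩ := D.exists_sq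
  have hen : e ≤ n := by
    rw [he] at hWn
    exact (Nat.pow_le_pow_iff_left two_ne_zero).mp hWn
  have he1 : e = 1 := by
    by_contra h
    have he0 : e ≠ 0 := fun e0 => by rw [e0] at he; exact Nat.card_pos.ne' he
    obtain ⟨r, hr, hre⟩ := Nat.exists_prime_and_dvd h
    have hre' := Nat.le_of_dvd (by omega) hre
    have hr' : r ∣ 2 ^ d - 1 := hU ▸ D.prime_dvd_U hr (he ▸ dvd_pow hre two_ne_zero)
    interval_cases d
    · exact hr.ne_one (Nat.dvd_one.mp hr')
    · have : r = 2 := by have := hr.two_le; omega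
      subst this
      norm_num at hr'
    · omega
    · have := hr.two_le; omega
  subst he1
  have hL : Nat.card D.linRange ≤ 1 := bound_one _ he
  have hlin : Nat.card D.lin ≤ 2 ^ d - 1 := by
    refine D.card_lin_le.trans ((Nat.mul_le_mul_left _ hL).trans ?_)
    rw [D.card_B, he, hU]
    simp
  have hUlin : D.U = D.lin := Subgroup.eq_of_le_of_card_ge D.U_le (hU ▸ hlin)
  refine KB.comap ?_ (Subgroup.inclusion hHG) (Subgroup.inclusion_injective hHG)
  interval_cases d
  · refine KB.of_card_le ?_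
    rw [← Subgroup.card_mul_index D.lin]
    exact (Nat.mul_le_mul hlin hidx).trans (by norm_num)
  · refine KB.of_card_le ?_
    rw [← Subgroup.card_mul_index D.lin]
    exact (Nat.mul_le_mul hlin hidx).trans (by norm_num)
  · omega
  refine (kb_of_centralizer (D.lin : Set G) (z := 15) (c := 12) ?_ fun g hg => ?_).mono le_rfl
  · rw [← Nat.card_coe_set_eq]
    exact hlin
  obtain ⟨f, hf2, ⟨j, hfj⟩, hflt, hfU⟩ := hcent g hg
  have hf4 : f ≤ 4 := by
    by_contra h
    rcases Nat.lt_or_ge j 2 with hj | hj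
    · interval_cases j <;> simp at hfj hflt ⊢ <;> omega
    · have := Nat.pow_le_pow_right (show 0 < f by omega) hj
      have := Nat.pow_le_pow_left (show 5 ≤ f by omega) 2
      norm_num at *
      omega
  haveI := D.lin_normal
  let π : Subgroup.centralizer ({g} : Set G) →* G ⧸ D.lin :=
    (QuotientGroup.mk' D.lin).comp (Subgroup.subtype _)
  rw [card_eq_ker_mul_range π]
  calc Nat.card π.ker * Nat.card π.range
      ≤ Nat.card (D.U ⊓ Subgroup.centralizer ({g} : Set G) : Subgroup G) * D.lin.index := by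
        refine Nat.mul_le_mul ?_ (Subgroup.card_le_card_group _)
        refine Nat.card_le_card_of_injective (fun x : π.ker =>
          (⟨((x : Subgroup.centralizer ({g} : Set G)) : G),
            by rw [hUlin]; exact (QuotientGroup.eq_one_iff (N := D.lin) _).mp (MonoidHom.mem_ker.mp x.2),
            x.1.2⟩ :
            (D.U ⊓ Subgroup.centralizer ({g} : Set G) : Subgroup G))) fun a b e => ?_
        exact Subtype.ext (Subtype.ext (congrArg Subtype.val e :))
    _ ≤ (f - 1) * 4 := Nat.mul_le_mul hfU hidx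
    _ ≤ 12 := by omega

/-- Irreducible groups on a space of order `64`. -/
theorem card_irr_sixtyfour (hV : Nat.card V = 64) (hsol : Group.IsSolvable H) (hirr : Irr H) :
    Nat.card H ≤ 2187 := by
  classical
  by_cases hno : NoDecomp H
  swap
  · simp only [NoDecomp, not_forall, not_isEmpty_iff] at hno
    obtain ⟨t, ht, ⟨dec⟩⟩ := hno
    obtain ⟨c, W, _, _, K, T, hKs, hKc, -, hc2, hWc, hVc, hH, -⟩ :=
      imprimitive_split hsol hirr ht dec
    obtain ⟨j, hj1, rfl, hjt⟩ := base_pow_split Nat.prime_two hc2 (by omega)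
      (show 2 ^ 6 = c ^ t by rw [← hVc, hV]; norm_num)
    have ht6 : t ≤ 6 := by nlinarith
    rcases eq_or_ne j 3 with hj3 | hj3
    · subst hj3
      have hK : ∀ i, Nat.card (K i) ≤ 21 := fun i => by
        haveI : Nontrivial (W i) := Finite.one_lt_card_iff_nontrivial.mp (by rw [hWc]; norm_num)
        exact card_le_eight (by rw [hWc]; norm_num) (hKs i) (hKc i)
      refine hH.trans ((Nat.mul_le_mul (Finset.prod_le_prod' fun i _ => hK i)
        (card_perm_subgroup_le T)).trans ?_)
      rw [Finset.prod_const, Finset.card_univ, Fintype.card_fin, show t = 2 by omega]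
      decide
    · refine hH.trans ((Nat.mul_le_mul (Finset.prod_le_prod' fun i _ => card_end_le (K i))
        (card_perm_subgroup_le T)).trans ?_)
      simp only [hWc, Finset.prod_const, Finset.card_univ, Fintype.card_fin]
      interval_cases t <;> first
        | omega
        | (rw [show j = 2 by omega]; decide)
        | (rw [show j = 1 by omega]; decide)
  obtain ⟨p, d, n, e, hp, hd, hn, he1, hVc, hen, hdiv, hb⟩ := primitive_le hsol hirr hno
  obtain ⟨rfl, hdn⟩ := prime_pow_split (k := 6) hp Nat.prime_two hd hn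
    (by rw [← hVc, hV]; norm_num)
  have hd6 : d ≤ 6 := by nlinarith
  rcases eq_or_ne e 1 with rfl | he
  · refine (hb 1 fun W U _ _ _ _ _ P L _ _ _ _ hW => bound_one L hW).trans ?_
    interval_cases d <;> norm_num
  -- `e = 3`
  obtain ⟨r, hr, hre⟩ := Nat.exists_prime_and_dvd he
  have hre' := Nat.le_of_dvd (by omega) hre
  have hr' := hdiv r hr hre
  have h23 : d = 2 ∧ e = 3 := by
    have := hr.two_le
    interval_cases d
    · exact absurd (Nat.dvd_one.mp hr') hr.ne_one
    · have hn3 : n = 3 := by omega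
      have hr3 : r = 3 := (Nat.prime_dvd_prime_iff_eq hr Nat.prime_three).mp (by simpa using hr')
      subst hr3
      exact ⟨rfl, by omega⟩
    · have : r = 2 := by omega
      subst this
      norm_num at hr'
    all_goals omega
  obtain ⟨rfl, rfl⟩ := h23
  refine (hb 24 fun W U _ _ _ _ _ P L _ _ hω hexp hW => ?_).trans (by norm_num)
  obtain ⟨m, hm, hm'⟩ := hexp
  haveI : Fact (Nat.Prime 3) := ⟨Nat.prime_three⟩
  obtain ⟨f, hf⟩ := exists_sl2_embedding P (exp_of_squarefree Nat.prime_three hW hm hm') hW L hω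
  exact (Nat.card_le_card_of_injective f hf).trans card_sl2_le

/-- Irreducible groups on a space of order `81`. -/
theorem card_irr_eightyone (hV : Nat.card V = 81) (hsol : Group.IsSolvable H) (hirr : Irr H) :
    Nat.card H ≤ 6561 := by
  classical
  by_cases hno : NoDecomp H
  swap
  · simp only [NoDecomp, not_forall, not_isEmpty_iff] at hno
    obtain ⟨t, ht, ⟨dec⟩⟩ := hno
    obtain ⟨c, W, _, _, K, T, hKs, hKc, -, hc2, hWc, hVc, hH, -⟩ :=
      imprimitive_split hsol hirr ht dec
    obtain ⟨j, hj1, rfl, hjt⟩ := base_pow_split Nat.prime_three hc2 (by omega)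
      (show 3 ^ 4 = c ^ t by rw [← hVc, hV]; norm_num)
    have ht4 : t ≤ 4 := by nlinarith
    rcases eq_or_ne j 2 with hj2 | hj2
    · subst hj2
      have hK : ∀ i, Nat.card (K i) ≤ 48 := fun i => by
        haveI : Nontrivial (W i) := Finite.one_lt_card_iff_nontrivial.mp (by rw [hWc]; norm_num)
        exact card_le_nine (by rw [hWc]; norm_num) (hKs i) (hKc i)
      refine hH.trans ((Nat.mul_le_mul (Finset.prod_le_prod' fun i _ => hK i)
        (card_perm_subgroup_le T)).trans ?_)
      rw [Finset.prod_const, Finset.card_univ, Fintype.card_fin, show t = 2 by omega]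
      decide
    · refine hH.trans ((Nat.mul_le_mul (Finset.prod_le_prod' fun i _ => card_end_le (K i))
        (card_perm_subgroup_le T)).trans ?_)
      simp only [hWc, Finset.prod_const, Finset.card_univ, Fintype.card_fin]
      interval_cases t <;> first
        | omega
        | (rw [show j = 1 by omega]; decide)
  obtain ⟨p, d, n, e, hp, hd, hn, he1, hVc, hen, hdiv, hb⟩ := primitive_le hsol hirr hno
  obtain ⟨rfl, hdn⟩ := prime_pow_split (k := 4) hp Nat.prime_three hd hn
    (by rw [← hVc, hV]; norm_num)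
  have hd4 : d ≤ 4 := by nlinarith
  rcases eq_or_ne e 1 with rfl | he
  · refine (hb 1 fun W U _ _ _ _ _ P L _ _ _ _ hW => bound_one L hW).trans ?_
    interval_cases d <;> norm_num
  rcases eq_or_ne e 2 with rfl | he2
  · refine (hb 6 fun W U _ _ _ _ _ P L _ _ _ _ hW => bound_four L hW).trans ?_
    interval_cases d <;> first | omega | norm_num
  have h4 : d = 1 ∧ e = 4 := by
    interval_cases d
    · have hn4 : n = 4 := by omega
      refine ⟨rfl, ?_⟩
      by_contra h
      have : e = 3 := by omega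
      subst this
      have := hdiv 3 Nat.prime_three dvd_rfl
      norm_num at this
    all_goals omega
  obtain ⟨rfl, rfl⟩ := h4
  refine (hb 72 fun W U _ _ _ _ _ P L hs hc _ _ hW => ?_).trans (by norm_num)
  obtain ⟨V', _, _, φ, H', eH, -, -, hs', hc'⟩ := exists_transport L hs hc
  have hcard : Nat.card V' = 16 := (Nat.card_congr φ).symm.trans (hW.trans (by norm_num))
  haveI : Nontrivial V' := Finite.one_lt_card_iff_nontrivial.mp (by omega)
  rw [Nat.card_congr eH.toEquiv]
  exact card_le_sixteen hcard hs' hc'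

end Cfsg.Agent.SolvBound
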